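import Groth.Agent.HomLib.Basic
import Groth.Agent.ParaFLib.Stalk
import Groth.Agent.CAlgBasics.Reflexive
import Groth.Agent.RegLocLib.LocClosedPoint
import Groth.Agent.PullbackMod.Hom
import Groth.Agent.DevLib.Closed
import Groth.Prelude.Def_RefHull

/-!
# Stalks of the sheaf Hom and of the biduality map
-/

set_option autoImplicit false
set_option backward.isDefEq.respectTransparency false
set_option linter.style.haveILetI false
universe u
open CategoryTheory CategoryTheory.Limits AlgebraicGeometry TopologicalSpace Module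
open Groth.Agent.PullbackMod

noncomputable section

namespace Groth.Agent.RefOne

variable {X : Scheme.{u}} [IsLocallyNoetherian X]

/-- The stalks of the sheaf Hom out of a coherent module. -/
theorem evalStalk_bijective {F G : X.Modules} (hF : Coh.IsCoh F) (hG : Coh.IsQCoh G) (x : X) :
    Function.Bijective (RefHull.evalStalk F G x) := by
  obtain ⟨W, hW, hx, -⟩ := exists_isAffineOpen_mem_and_subset (x := x) (U := (⊤ : X.Opens)) trivial
  haveI := hF.1
  haveI := hG
  haveI := QCohLib.finite_sections_of_isCoh hF hW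
  haveI := QCohLib.isNoetherianRing_section hW
  haveI : Module.FinitePresentation Γ(X, W) Γ(F, W) := Module.finitePresentation_of_finite _ _
  let H := RefHull.homSh F G
  haveI : Coh.IsQCoh H := HomLib.isQCoh_homSh hF hG
  let A := Γ(X, W)
  let B := X.presheaf.stalk x
  letI : Algebra A B := TopCat.Presheaf.algebra_section_stalk X.presheaf ⟨x, hx⟩
  haveI := hW.isLocalization_stalk ⟨x, hx⟩
  letI := Module.compHom (F.presheaf.stalk x) (X.presheaf.germ W x hx).hom
  letI := Module.compHom (G.presheaf.stalk x) (X.presheaf.germ W x hx).hom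
  letI := Module.compHom (H.presheaf.stalk x) (X.presheaf.germ W x hx).hom
  haveI : IsScalarTower A B (F.presheaf.stalk x) := .of_algebraMap_smul fun _ _ => rfl
  haveI : IsScalarTower A B (G.presheaf.stalk x) := .of_algebraMap_smul fun _ _ => rfl
  haveI : IsScalarTower A B (H.presheaf.stalk x) := .of_algebraMap_smul fun _ _ => rfl
  let S := (hW.primeIdealOf ⟨x, hx⟩).asIdeal.primeCompl
  let f := FlatLocus.germL F W x hx
  let g := FlatLocus.germL G W x hx
  haveI : IsLocalizedModule S f := FlatLocus.isLocalizedModule_germL F hW x hx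
  haveI : IsLocalizedModule S g := FlatLocus.isLocalizedModule_germL G hW x hx
  haveI : IsLocalizedModule S (FlatLocus.germL H W x hx) := FlatLocus.isLocalizedModule_germL H hW x hx
  let T := IsLocalizedModule.mapExtendScalars S f g B
  haveI : IsLocalizedModule S T := Module.FinitePresentation.isLocalizedModule_mapExtendScalars _ _ _ _
  let e := HomLib.homEquiv hW F G
  let T' : Γ(H, W) →ₗ[A] (F.presheaf.stalk x →ₗ[B] G.presheaf.stalk x) := T ∘ₗ e.toLinearMap
  haveI : IsLocalizedModule S T' := IsLocalizedModule.of_linearEquiv_right S T e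
  have key : ∀ h : Γ(H, W), RefHull.evalStalk F G x (FlatLocus.germL H W x hx h) = T' h := fun h => by
    refine LinearMap.restrictScalars_injective A ?_
    refine IsLocalizedModule.ext S f (IsLocalizedModule.map_units g) (LinearMap.ext fun m => ?_)
    rw [LinearMap.comp_apply, LinearMap.comp_apply]
    show RefHull.evalStalk F G x (H.presheaf.germ W x hx h) (F.presheaf.germ W x hx m) = _
    rw [RefHull.evalStalk_germ, ← HomLib.germ_ev h le_rfl hx]
    exact (IsLocalizedModule.map_apply S f g (HomLib.ev h le_rfl) m).symm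
  have h2 : (RefHull.evalStalk F G x).restrictScalars A =
      (IsLocalizedModule.linearEquiv S (FlatLocus.germL H W x hx) T').toLinearMap := by
    refine IsLocalizedModule.ext S (FlatLocus.germL H W x hx) (IsLocalizedModule.map_units T') (LinearMap.ext fun h => ?_)
    simp only [LinearMap.comp_apply, LinearMap.coe_restrictScalars, LinearEquiv.coe_coe,
      IsLocalizedModule.linearEquiv_apply]
    exact key h
  have h3 : ⇑(RefHull.evalStalk F G x) = ⇑(IsLocalizedModule.linearEquiv S (FlatLocus.germL H W x hx) T') :=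
    congrArg DFunLike.coe h2
  rw [h3]
  exact LinearEquiv.bijective _

/-- The sheaf Hom stalk as linear maps. -/
def homStalk {F G : X.Modules} (hF : Coh.IsCoh F) (hG : Coh.IsQCoh G) (x : X) :
    (RefHull.homSh F G).presheaf.stalk x ≃ₗ[X.presheaf.stalk x] RefHull.StalkHom F G x :=
  LinearEquiv.ofBijective _ (evalStalk_bijective hF hG x)

omit [IsLocallyNoetherian X] in
theorem bijective_oOne (x : X) : Function.Bijective (LinearMap.toSpanSingleton (X.presheaf.stalk x)
    ((Coh.structureModule X).presheaf.stalk x) (ParaFLib.oneG x)) :=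
  ParaFLib.bijective_oneG x

/-- The stalk of `O_X` as a module. -/
def oEquiv {X : Scheme.{u}} (x : X) : X.presheaf.stalk x ≃ₗ[X.presheaf.stalk x] (Coh.structureModule X).presheaf.stalk x :=
  LinearEquiv.ofBijective _ (bijective_oOne x)

omit [IsLocallyNoetherian X] in
theorem stalkSpecializes_smul (M : X.Modules) {η x : X} (h : η ⤳ x) (a : X.presheaf.stalk x) (m : M.presheaf.stalk x) :
    M.presheaf.stalkSpecializes h (a • m) = X.presheaf.stalkSpecializes h a • M.presheaf.stalkSpecializes h m := by
  obtain ⟨U, hxU, r, rfl⟩ := TopCat.Presheaf.exists_germ_eq X.presheaf a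
  obtain ⟨V, hxV, t, rfl⟩ := TopCat.Presheaf.exists_germ_eq M.presheaf m
  rw [← TopCat.Presheaf.germ_res_apply X.presheaf (homOfLE (inf_le_left : U ⊓ V ≤ U)) x ⟨hxU, hxV⟩,
    ← TopCat.Presheaf.germ_res_apply M.presheaf (homOfLE (inf_le_right : U ⊓ V ≤ V)) x ⟨hxU, hxV⟩, ← Mero.germ_smul,
    TopCat.Presheaf.germ_stalkSpecializes_apply, TopCat.Presheaf.germ_stalkSpecializes_apply,
    TopCat.Presheaf.germ_stalkSpecializes_apply, Mero.germ_smul]

theorem isCoh_dual {F : X.Modules} (hF : Coh.IsCoh F) : Coh.IsCoh (RefHull.dual F) :=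
  HomLib.isCoh_homSh hF (DevLib.isCoh_structureModule X)

/-- The stalk of the dual. -/
def dualStalk {F : X.Modules} (hF : Coh.IsCoh F) (x : X) :
    (RefHull.dual F).presheaf.stalk x ≃ₗ[X.presheaf.stalk x] Dual (X.presheaf.stalk x) (F.presheaf.stalk x) :=
  (homStalk hF (DevLib.isCoh_structureModule X).1 x).trans
    (LinearEquiv.congrRight (oEquiv x).symm)

theorem dualStalk_apply {F : X.Modules} (hF : Coh.IsCoh F) (x : X) (θ : (RefHull.dual F).presheaf.stalk x)
    (v : F.presheaf.stalk x) :
    dualStalk hF x θ v = (oEquiv x).symm (RefHull.evalStalk F (Coh.structureModule X) x θ v) := rfl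

theorem bidualMap_stalk (F : X.Modules) (x : X) (v : F.presheaf.stalk x) :
    RefHull.evalStalk (RefHull.dual F) (Coh.structureModule X) x (stalkLin (RefHull.bidualMap F) x v) =
      RefHull.bidualAt F x v := by
  obtain ⟨U, hx, s, rfl⟩ := TopCat.Presheaf.exists_germ_eq F.presheaf v
  rw [stalkLin_germ, RefHull.evalStalk_germ, RefHull.bidualMap_app_apply]

theorem exists_bidual_equiv {F : X.Modules} (hF : Coh.IsCoh F) (x : X) :
    ∃ E : (RefHull.ddual F).presheaf.stalk x ≃ₗ[X.presheaf.stalk x]
      Dual (X.presheaf.stalk x) (Dual (X.presheaf.stalk x) (F.presheaf.stalk x)),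
      ⇑E ∘ stalkLin (RefHull.bidualMap F) x = ⇑(Dual.eval (X.presheaf.stalk x) (F.presheaf.stalk x)) := by
  let E : (RefHull.ddual F).presheaf.stalk x ≃ₗ[X.presheaf.stalk x]
      Dual (X.presheaf.stalk x) (Dual (X.presheaf.stalk x) (F.presheaf.stalk x)) :=
    (dualStalk (isCoh_dual hF) x).trans (dualStalk hF x).symm.dualMap
  refine ⟨E, funext fun v => LinearMap.ext fun φ => ?_⟩
  obtain ⟨θ, rfl⟩ := (dualStalk hF x).surjective φ
  show dualStalk (isCoh_dual hF) x _ ((dualStalk hF x).symm (dualStalk hF x θ)) = dualStalk hF x θ v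
  rw [LinearEquiv.symm_apply_apply, dualStalk_apply, dualStalk_apply, bidualMap_stalk, RefHull.bidualAt_apply]

theorem bijective_bidual_stalk_iff {F : X.Modules} (hF : Coh.IsCoh F) (x : X) :
    Function.Bijective (stalkLin (RefHull.bidualMap F) x) ↔ RefHull.IsReflexiveAt F x := by
  obtain ⟨E, h1⟩ := exists_bidual_equiv hF x
  rw [← E.bijective.of_comp_iff', h1]
  exact ⟨fun h => ⟨h⟩, fun h => h.bijective_dual_eval'⟩

theorem isReflexive_iff {F : X.Modules} (hF : Coh.IsCoh F) :
    RefHull.IsReflexive F ↔ ∀ x : X, RefHull.IsReflexiveAt F x := by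
  rw [RefHull.IsReflexive, isIso_iff_stalk]
  exact forall_congr' fun x => bijective_bidual_stalk_iff hF x

/-- Duals are reflexive. -/
theorem isReflexive_dual [IsIntegral X] {F : X.Modules} (hF : Coh.IsCoh F) : RefHull.IsReflexive (RefHull.dual F) := by
  refine (isReflexive_iff (isCoh_dual hF)).2 fun x => ?_
  haveI := hF.1
  haveI := PullbackMod.finite_stalk_of_isFT hF.2 x
  haveI := CAlgBasics.isReflexive_linearMap (R := X.presheaf.stalk x) (F.presheaf.stalk x) (X.presheaf.stalk x)
  exact Module.equiv (dualStalk hF x).symm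

/-- Reflexivity passes to generisations. -/
theorem isReflexiveAt_of_specializes [IsIntegral X] {F : X.Modules} (hF : Coh.IsCoh F) {η x : X} (h : η ⤳ x)
    (hr : RefHull.IsReflexiveAt F x) : RefHull.IsReflexiveAt F η := by
  obtain ⟨W, hW, hx, -⟩ := exists_isAffineOpen_mem_and_subset (x := x) (U := (⊤ : X.Opens)) trivial
  have hη : η ∈ W := h.mem_open W.2 hx
  haveI := hF.1
  haveI := QCohLib.finite_sections_of_isCoh hF hW
  haveI := QCohLib.isNoetherianRing_section hW
  let A := Γ(X, W)
  let B := X.presheaf.stalk x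
  let C := X.presheaf.stalk η
  letI : Algebra A B := TopCat.Presheaf.algebra_section_stalk X.presheaf ⟨x, hx⟩
  letI : Algebra A C := TopCat.Presheaf.algebra_section_stalk X.presheaf ⟨η, hη⟩
  letI : Algebra B C := (X.presheaf.stalkSpecializes h).hom.toAlgebra
  haveI : IsScalarTower A B C := .of_algebraMap_eq fun a =>
    (TopCat.Presheaf.germ_stalkSpecializes_apply X.presheaf hx h a).symm
  haveI := hW.isLocalization_stalk ⟨x, hx⟩
  haveI := hW.isLocalization_stalk ⟨η, hη⟩
  haveI : IsLocalization ((hW.primeIdealOf ⟨η, hη⟩).asIdeal.primeCompl.map (algebraMap A B)) C :=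
    IsLocalization.isLocalization_of_submonoid_le B C (hW.primeIdealOf ⟨x, hx⟩).asIdeal.primeCompl (hW.primeIdealOf ⟨η, hη⟩).asIdeal.primeCompl (fun t ht hmem => by
      have h1 := IsLocalization.map_units B (⟨t, ht⟩ : (hW.primeIdealOf ⟨x, hx⟩).asIdeal.primeCompl)
      have h2 := h1.map (algebraMap B C)
      rw [← IsScalarTower.algebraMap_apply] at h2
      exact (IsLocalization.AtPrime.isUnit_to_map_iff C (hW.primeIdealOf ⟨η, hη⟩).asIdeal t).1 h2 hmem)
  haveI : Module.Flat B C := IsLocalization.flat _ ((hW.primeIdealOf ⟨η, hη⟩).asIdeal.primeCompl.map (algebraMap A B))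
  haveI : IsNoetherianRing B := IsLocalization.isNoetherianRing (hW.primeIdealOf ⟨x, hx⟩).asIdeal.primeCompl B inferInstance
  letI := Module.compHom (F.presheaf.stalk x) (X.presheaf.germ W x hx).hom
  letI := Module.compHom (F.presheaf.stalk η) (X.presheaf.germ W η hη).hom
  haveI : IsScalarTower A B (F.presheaf.stalk x) := .of_algebraMap_smul fun _ _ => rfl
  haveI : IsScalarTower A C (F.presheaf.stalk η) := .of_algebraMap_smul fun _ _ => rfl
  letI := Module.compHom (F.presheaf.stalk η) (algebraMap B C)
  haveI : IsScalarTower B C (F.presheaf.stalk η) := .of_algebraMap_smul fun _ _ => rfl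
  haveI : IsScalarTower A B (F.presheaf.stalk η) := .of_algebraMap_smul fun a m => by
    show algebraMap B C (algebraMap A B a) • m = algebraMap A C a • m
    rw [← IsScalarTower.algebraMap_apply]
  haveI := FlatLocus.isLocalizedModule_germL F hW x hx
  haveI := FlatLocus.isLocalizedModule_germL F hW η hη
  let ψ : F.presheaf.stalk x →ₗ[B] F.presheaf.stalk η :=
    { toFun := F.presheaf.stalkSpecializes h
      map_add' := map_add _
      map_smul' := fun b m => stalkSpecializes_smul F h b m }
  have hb1 := IsLocalizedModule.isBaseChange (hW.primeIdealOf ⟨x, hx⟩).asIdeal.primeCompl B (FlatLocus.germL F W x hx)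
  have hb2 := IsLocalizedModule.isBaseChange (hW.primeIdealOf ⟨η, hη⟩).asIdeal.primeCompl C (FlatLocus.germL F W η hη)
  have hψ : (ψ.restrictScalars A).comp (FlatLocus.germL F W x hx) = FlatLocus.germL F W η hη :=
    LinearMap.ext fun m => TopCat.Presheaf.germ_stalkSpecializes_apply F.presheaf hx h m
  have hb : IsBaseChange C ψ := IsBaseChange.of_comp hb1 (hψ ▸ hb2)
  haveI : Module.Finite B (F.presheaf.stalk x) :=
    Module.Finite.of_isLocalizedModule (hW.primeIdealOf ⟨x, hx⟩).asIdeal.primeCompl (FlatLocus.germL F W x hx)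
  haveI : Module.IsReflexive B (F.presheaf.stalk x) := hr
  haveI := CAlgBasics.isReflexive_baseChange (R := B) C (F.presheaf.stalk x)
  exact Module.equiv hb.equiv

theorem isReflexiveAt_of_closed [IsIntegral X] {F : X.Modules} (hF : Coh.IsCoh F)
    (h : ∀ x : X, IsClosed ({x} : Set X) → RefHull.IsReflexiveAt F x) (x : X) : RefHull.IsReflexiveAt F x := by
  obtain ⟨c, hc, hcl⟩ := RegLocLib.exists_closed_point (Z := closure {x}) isClosed_closure ⟨x, subset_closure rfl⟩
  exact isReflexiveAt_of_specializes hF (specializes_iff_mem_closure.2 hc) (h c hcl)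

end Groth.Agent.RefOne
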