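import Groth.Agent.RefOne.Principal
import Groth.Agent.S5090
import Groth.Agent.DivDescLib.Basic
import Groth.Agent.ParaFLib.Extend

/-!
# Principal divisors of points of codimension one
-/

set_option autoImplicit false
set_option backward.isDefEq.respectTransparency false
set_option linter.style.haveILetI false
universe u
open CategoryTheory CategoryTheory.Limits AlgebraicGeometry TopologicalSpace IsLocalRing
open Groth.Agent.PullbackMod

noncomputable section

namespace Groth.Agent.RefOne

variable {X : Scheme.{u}} [IsIntegral X] [IsLocallyNoetherian X]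

theorem height_eq_of_point {y x : X} (h : y ⤳ x) (P : Ideal (X.presheaf.stalk x)) [P.IsPrime]
    (hP : (maximalIdeal (X.presheaf.stalk y)).comap (X.presheaf.stalkSpecializes h).hom = P) :
    (P.height : WithBot ℕ∞) = Order.coheight y := by
  subst hP
  letI := (X.presheaf.stalkSpecializes h).hom.toAlgebra
  haveI := S5090.isLocalization_stalkSpecializes h
  rw [← ringKrullDim_stalk_eq_coheight]
  exact (IsLocalization.AtPrime.ringKrullDim_eq_height _ (X.presheaf.stalk y)).symm

theorem ord_uniformizer (hX : Pi1.IsNormalScheme X) {y : X} (hy : Order.coheight y = 1) {π : X.presheaf.stalk y}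
    (hπ : maximalIdeal (X.presheaf.stalk y) = Ideal.span {π}) :
    Scheme.ord (show X.functionField from toK y π) y = 1 := by
  haveI := isDVR hX hy
  have hirr : Irreducible π := (IsDiscreteValuationRing.irreducible_iff_uniformizer π).2 hπ
  rw [scheme_ord_toK hy hirr.ne_zero, Ring.ord_eq_addVal, IsDiscreteValuationRing.addVal_uniformizer hirr]
  rfl

theorem toK_spec {y x : X} (h : y ⤳ x) (a : X.presheaf.stalk x) :
    toK y (X.presheaf.stalkSpecializes h a) = toK x a := by
  obtain ⟨U, hx, s, rfl⟩ := TopCat.Presheaf.exists_germ_eq X.presheaf a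
  erw [TopCat.Presheaf.germ_stalkSpecializes_apply X.presheaf hx h s]
  rw [toK_germ, toK_germ]

open Classical in
theorem exists_toK_of_ord_delta (hX : Pi1.IsNormalScheme X) {ζ : X} (x : X) {f : X.functionField}
    (hfo : ∀ y : X, y ⤳ x → Order.coheight y = 1 → Scheme.ord f y = if y = ζ then 1 else 0) :
    ∃ a, toK x a = f :=
  exists_toK_of_codim_one hX (x := x) f fun y hy hy1 => by
    obtain ⟨c, hc⟩ := exists_eq_toK hX hy1 (f := f) (Or.inr (by rw [hfo y hy hy1]; split <;> norm_num))
    exact ⟨c, hc⟩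

open Classical in
/-- A function of divisor `ζ` near `x` generates the ideal of the closure of `ζ` at `x`. -/
theorem span_eq_of_ord (hX : Pi1.IsNormalScheme X) {ζ x : X} (hζx : ζ ⤳ x) (hζ1 : Order.coheight ζ = 1)
    {f : X.functionField} (hf : f ≠ 0)
    (hfo : ∀ y : X, y ⤳ x → Order.coheight y = 1 → Scheme.ord f y = if y = ζ then 1 else 0)
    {a : X.presheaf.stalk x} (ha : toK x a = f) :
    (maximalIdeal (X.presheaf.stalk ζ)).comap (X.presheaf.stalkSpecializes hζx).hom = Ideal.span {a} := by
  refine le_antisymm (fun r hr => ?_) ((Ideal.span_singleton_le_iff_mem _).2 ?_)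
  · rw [Ideal.mem_span_singleton]
    rcases eq_or_ne r 0 with rfl | hr0
    · exact dvd_zero a
    let rK : X.functionField := toK x r
    have hrK : rK ≠ 0 := toK_ne_zero hr0
    obtain ⟨c, hc⟩ := exists_toK_of_codim_one hX (x := x) (show X.functionField from rK * f⁻¹) fun y hy hy1 => by
      obtain ⟨c, hc⟩ := exists_eq_toK hX hy1 (f := rK * f⁻¹) (Or.inr (by
        rw [Scheme.ord_mul hrK (inv_ne_zero hf), scheme_ord_inv hf, hfo y hy hy1]
        haveI := isDVR hX hy1
        have hne : X.presheaf.stalkSpecializes hy r ≠ 0 := fun h => hrK (by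
          show toK x r = 0
          rw [← toK_spec hy, h, map_zero])
        have hrK' : rK = (show X.functionField from toK y (X.presheaf.stalkSpecializes hy r)) := (toK_spec hy r).symm
        split
        · next he =>
          subst he
          obtain ⟨π, hπ⟩ := IsDiscreteValuationRing.exists_irreducible (X.presheaf.stalk y)
          have hmem : X.presheaf.stalkSpecializes hy r ∈ maximalIdeal (X.presheaf.stalk y) := by
            exact hr
          rw [hπ.maximalIdeal_eq, Ideal.mem_span_singleton] at hmem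
          obtain ⟨r', hr'⟩ := hmem
          have hr'0 : r' ≠ 0 := fun h => hne (by rw [hr', h, mul_zero])
          rw [hrK', hr', map_mul]
          have := Scheme.ord_mul (x := y) (show (show X.functionField from toK y π) ≠ 0 from toK_ne_zero hπ.ne_zero)
            (show (show X.functionField from toK y r') ≠ 0 from toK_ne_zero hr'0)
          erw [this, ord_uniformizer hX hy1 hπ.maximalIdeal_eq, scheme_ord_toK hy1 hr'0]
          omega
        · rw [hrK', scheme_ord_toK hy1 hne]
          omega))
      exact ⟨c, hc⟩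
    refine ⟨c, toK_injective x ?_⟩
    rw [map_mul, hc, ha]
    show rK = f * (rK * f⁻¹)
    field_simp
  · rw [Ideal.mem_comap, mem_maximalIdeal]
    intro hu
    have h0 := scheme_ord_toK_unit hζ1 hu
    rw [show toK ζ ((X.presheaf.stalkSpecializes hζx).hom a) = f from (toK_spec hζx a).trans ha] at h0
    rw [hfo ζ hζx hζ1, if_pos rfl] at h0
    exact one_ne_zero h0

theorem ufd_of_divisors (hX : Pi1.IsNormalScheme X)
    (H : ∀ (ζ : X), Order.coheight ζ = 1 → ∀ x : X, ∃ f : X.functionField, f ≠ 0 ∧
      ∀ y : X, y ⤳ x → Order.coheight y = 1 → Scheme.ord f y = (open Classical in if y = ζ then 1 else 0))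
    (x : X) : UniqueFactorizationMonoid (X.presheaf.stalk x) := by
  classical
  haveI := (hX x).1
  by_cases hm : (maximalIdeal (X.presheaf.stalk x)).height = 0
  · have h1 : maximalIdeal (X.presheaf.stalk x) = ⊥ := by
      rw [Ideal.height_eq_zero_iff, IsDomain.minimalPrimes_eq_singleton_bot] at hm
      exact hm
    letI := (IsLocalRing.isField_iff_maximalIdeal_eq.2 h1).toField
    infer_instance
  refine (S5090.ufd_of_height_one_principal hm fun P hP hP1 => ?_).2
  haveI := hP
  obtain ⟨ζ, hζx, hζP⟩ := DivDescLib.exists_generisation x P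
  have hζ1 : Order.coheight ζ = 1 := by
    have h := height_eq_of_point hζx P hζP
    rw [hP1] at h
    exact_mod_cast h.symm
  obtain ⟨f, hf, hfo⟩ := H ζ hζ1 x
  obtain ⟨a, ha⟩ := exists_toK_of_ord_delta hX x hfo
  have ha0 : a ≠ 0 := fun h => hf (by rw [h, map_zero] at ha; exact ha.symm)
  refine ⟨a, mem_nonZeroDivisors_of_ne_zero ha0, ?_⟩
  rw [← hζP]
  exact span_eq_of_ord hX hζx hζ1 hf hfo ha

theorem principal_of_ufd (hX : Pi1.IsNormalScheme X) (x : X) [UniqueFactorizationMonoid (X.presheaf.stalk x)]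
    (Z : X → ℤ) (hfin : ∃ W : X.Opens, x ∈ W ∧ {z : X | z ∈ W ∧ Z z ≠ 0}.Finite) :
    ∃ f : X.functionField, f ≠ 0 ∧ ∀ y : X, y ⤳ x → Order.coheight y = 1 → Scheme.ord f y = Z y := by
  classical
  haveI := (hX x).1
  obtain ⟨W, hxW, hW⟩ := hfin
  have hkey : ∀ ζ : X, ζ ⤳ x → Order.coheight ζ = 1 → ∃ g : X.functionField, g ≠ 0 ∧
      ∀ y : X, y ⤳ x → Order.coheight y = 1 → Scheme.ord g y = if y = ζ then 1 else 0 := by
    intro ζ hζ hζ1
    set P := (maximalIdeal (X.presheaf.stalk ζ)).comap (X.presheaf.stalkSpecializes hζ).hom with hPdef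
    have hPh : P.height = 1 := by
      have h := height_eq_of_point hζ P rfl
      rw [hζ1] at h
      exact_mod_cast h
    have hPne : P ≠ ⊥ := fun h => by
      rw [h, Ideal.height_bot] at hPh
      exact zero_ne_one hPh
    obtain ⟨p, hpP, hp⟩ := Ideal.IsPrime.exists_mem_prime_of_ne_bot (inferInstanceAs P.IsPrime) hPne
    have hPspan : P = Ideal.span {p} := by
      haveI := (Ideal.span_singleton_prime hp.ne_zero).2 hp
      rcases ((Ideal.span_singleton_le_iff_mem P).2 hpP).lt_or_eq with hlt | he
      · have h1 := Ideal.height_strict_mono_of_isPrime_of_isPrime hlt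
        rw [hPh, Order.lt_one_iff, Ideal.height_eq_zero_iff, IsDomain.minimalPrimes_eq_singleton_bot] at h1
        exact absurd (Ideal.span_singleton_eq_bot.1 h1) hp.ne_zero
      · exact he.symm
    refine ⟨toK x p, toK_ne_zero hp.ne_zero, fun y hy hy1 => ?_⟩
    rw [show (toK x p : X.presheaf.stalk (genericPoint X)) = toK y (X.presheaf.stalkSpecializes hy p) from (toK_spec hy p).symm]
    split
    · next he =>
      subst he
      refine ord_uniformizer hX hy1 ?_
      letI := (X.presheaf.stalkSpecializes hy).hom.toAlgebra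
      haveI := S5090.isLocalization_stalkSpecializes hy
      rw [← IsLocalization.AtPrime.map_eq_maximalIdeal ((maximalIdeal (X.presheaf.stalk y)).comap (X.presheaf.stalkSpecializes hy).hom)
        (X.presheaf.stalk y)]
      rw [← hPdef, hPspan, Ideal.map_span, Set.image_singleton]
      rfl
    · next hne =>
      refine scheme_ord_toK_unit hy1 ?_
      by_contra hu
      apply hne
      have hle : P ≤ (maximalIdeal (X.presheaf.stalk y)).comap (X.presheaf.stalkSpecializes hy).hom := by
        rw [hPspan, Ideal.span_singleton_le_iff_mem]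
        exact hu
      have hsp : ζ ⤳ y := DivDescLib.specializes_of_comap_le hζ hy hle
      by_contra hne'
      have := Order.coheight_strictAnti (lt_of_le_not_ge (show y ≤ ζ from hsp) fun h3 => hne' (Inseparable.eq (Specializes.antisymm h3 hsp)))
        (by rw [hζ1]; exact WithTop.one_lt_top)
      rw [hζ1, hy1] at this
      exact lt_irrefl _ this
  let T := hW.toFinset.filter fun z => z ⤳ x ∧ Order.coheight z = 1
  choose g hg0 hg using fun z : T => hkey z.1 (Finset.mem_filter.1 z.2).2.1 (Finset.mem_filter.1 z.2).2.2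
  refine ⟨∏ z : T, g z ^ Z z.1, Finset.prod_ne_zero_iff.2 fun z _ => zpow_ne_zero _ (hg0 z), fun y hy hy1 => ?_⟩
  have hpow : ∀ (a : X.functionField), a ≠ 0 → ∀ n : ℤ, Scheme.ord (a ^ n) y = n * Scheme.ord a y := by
    intro a ha n
    induction n with
    | zero => rw [zpow_zero, scheme_ord_one, zero_mul]
    | succ i ih => rw [zpow_add_one₀ ha, Scheme.ord_mul (zpow_ne_zero _ ha) ha, ih]; ring
    | pred i ih => rw [zpow_sub_one₀ ha, Scheme.ord_mul (zpow_ne_zero _ ha) (inv_ne_zero ha), scheme_ord_inv ha, ih]; ring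
  have hprod : ∀ (s : Finset T), Scheme.ord (∏ z ∈ s, g z ^ Z z.1) y = ∑ z ∈ s, Z z.1 * Scheme.ord (g z) y := by
    intro s
    induction s using Finset.induction with
    | empty => rw [Finset.prod_empty, Finset.sum_empty, scheme_ord_one]
    | @insert z s hz ih =>
      rw [Finset.prod_insert hz, Finset.sum_insert hz, Scheme.ord_mul (zpow_ne_zero _ (hg0 z))
        (Finset.prod_ne_zero_iff.2 fun w _ => zpow_ne_zero _ (hg0 w)), hpow _ (hg0 z), ih]
  rw [hprod]
  simp only [fun z => hg z y hy hy1, mul_ite, mul_one, mul_zero]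
  by_cases hyT : y ∈ T
  · rw [Finset.sum_eq_single (⟨y, hyT⟩ : T) (fun z _ hz => if_neg fun e => hz (Subtype.ext e.symm)) (fun h => absurd (Finset.mem_univ _) h),
      if_pos rfl]
  · rw [Finset.sum_eq_zero fun z _ => if_neg (fun e : y = z.1 => hyT (e ▸ z.2))]
    by_contra hne
    exact hyT (Finset.mem_filter.2 ⟨hW.mem_toFinset.2 ⟨hy.mem_open W.2 hxW, fun h => hne h.symm⟩, hy, hy1⟩)

omit [IsLocallyNoetherian X] in
theorem ord_zpow [IsLocallyNoetherian X] (y : X) {a : X.functionField} (ha : a ≠ 0) (n : ℤ) :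
    Scheme.ord (a ^ n) y = n * Scheme.ord a y := by
  induction n with
  | zero => rw [zpow_zero, scheme_ord_one, zero_mul]
  | succ i ih => rw [zpow_add_one₀ ha, Scheme.ord_mul (zpow_ne_zero _ ha) ha, ih]; ring
  | pred i ih => rw [zpow_sub_one₀ ha, Scheme.ord_mul (zpow_ne_zero _ ha) (inv_ne_zero ha), scheme_ord_inv ha, ih]; ring

open Classical in
/-- A finite combination of delta functions. -/
theorem exists_ord_combination (T : Finset X) (n : X → ℤ) (g : X → X.functionField) (hg0 : ∀ z ∈ T, g z ≠ 0) :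
    ∃ f : X.functionField, f ≠ 0 ∧ ∀ y : X, (∀ z ∈ T, Scheme.ord (g z) y = if y = z then 1 else 0) →
      Scheme.ord f y = if y ∈ T then n y else 0 := by
  refine ⟨∏ z ∈ T, g z ^ n z, Finset.prod_ne_zero_iff.2 fun z hz => zpow_ne_zero _ (hg0 z hz), fun y hy => ?_⟩
  have hprod : ∀ s : Finset X, s ⊆ T → Scheme.ord (∏ z ∈ s, g z ^ n z) y = ∑ z ∈ s, n z * Scheme.ord (g z) y := by
    intro s
    induction s using Finset.induction with
    | empty => intro _; rw [Finset.prod_empty, Finset.sum_empty, scheme_ord_one]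
    | @insert z s hz ih =>
      intro hs
      have hs' : s ⊆ T := (Finset.subset_insert z s).trans hs
      rw [Finset.prod_insert hz, Finset.sum_insert hz, Scheme.ord_mul (zpow_ne_zero _ (hg0 z (hs (Finset.mem_insert_self z s))))
        (Finset.prod_ne_zero_iff.2 fun w hw => zpow_ne_zero _ (hg0 w (hs' hw))), ord_zpow y (hg0 z (hs (Finset.mem_insert_self z s))), ih hs']
  rw [hprod T subset_rfl, Finset.sum_congr rfl fun z hz => by rw [hy z hz, mul_ite, mul_one, mul_zero]]
  exact Finset.sum_ite_eq T y n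

/-- A rational function lying in every local ring is a global function. -/
theorem exists_global (f : X.functionField) (h : ∀ x : X, ∃ a, toK x a = f) :
    ∃ g : Γ(X, ⊤), ∀ x : X, toK x (X.presheaf.germ ⊤ x trivial g) = f := by
  choose a ha using h
  choose W hxW s hs using fun x => X.presheaf.exists_germ_eq (a x)
  have hgen : ∀ x (z : X) (hz : z ∈ W x), toK z (X.presheaf.germ (W x) z hz (s x)) = f := fun x z hz => by
    rw [toK_germ, ← toK_germ x (hxW x), hs, ha]
  have hc : TopCat.Presheaf.IsCompatible X.presheaf W s := fun i j =>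
    TopCat.Presheaf.section_ext X.sheaf _ _ _ fun z hz => by
      refine toK_injective z ?_
      show toK z (X.presheaf.germ (W i ⊓ W j) z hz (X.presheaf.map _ (s i))) = toK z (X.presheaf.germ (W i ⊓ W j) z hz (X.presheaf.map _ (s j)))
      rw [TopCat.Presheaf.germ_res_apply, TopCat.Presheaf.germ_res_apply, hgen i z hz.1, hgen j z hz.2]
  obtain ⟨g, hg, -⟩ := X.sheaf.existsUnique_gluing' W ⊤ (fun i => homOfLE le_top)
    (fun z _ => Opens.mem_iSup.2 ⟨z, hxW z⟩) s hc
  refine ⟨g, fun x => ?_⟩
  rw [← TopCat.Presheaf.germ_res_apply X.presheaf (homOfLE (le_top : W x ≤ ⊤)) x (hxW x) g]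
  erw [hg x]
  exact hgen x x (hxW x)

/-- The locus where a coherent module is free of rank one. -/
theorem exists_free_locus {F : X.Modules} (hF : Coh.IsCoh F) :
    ∃ W : X.Opens, ParaFLib.LocGen F W ∧
      ∀ x : X, (∃ t : F.presheaf.stalk x, Function.Bijective fun r : X.presheaf.stalk x => r • t) → x ∈ W := by
  haveI := hF.1
  refine ⟨⨆ (V : X.Opens) (_ : ∃ s : Γ(F, V), ParaFLib.Gen V s), V, fun x hx => ?_, fun x ⟨t, ht⟩ => ?_⟩
  · simp only [Opens.mem_iSup] at hx
    obtain ⟨V, ⟨s, hs⟩, hxV⟩ := hx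
    exact ⟨V, s, hxV, hs⟩
  · let E : F.presheaf.stalk x ≃ₗ[X.presheaf.stalk x] (Fin 1 → X.presheaf.stalk x) :=
      (LinearEquiv.ofBijective (LinearMap.toSpanSingleton (X.presheaf.stalk x) (F.presheaf.stalk x) t) ht).symm.trans
        (LinearEquiv.funUnique (Fin 1) (X.presheaf.stalk x) (X.presheaf.stalk x)).symm
    obtain ⟨U, hU, ⟨i⟩⟩ := exists_nhd_freeAt F (QCohLib.isFP_of_isCoh F hF) (x := x) (n := 1) ⟨E⟩
    simp only [Opens.mem_iSup]
    exact ⟨U, ParaFLib.exists_gen_of_eq U.ι_image_top (ParaFLib.exists_gen_of_iso (i ≪≫ BCLib.freeModOneIso (U : Scheme.{u}))), hU⟩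

end Groth.Agent.RefOne
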