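import Groth.Agent.RefOne.Support
import Groth.Agent.IdealStalkLib.Comap
import Groth.Agent.OmegaAffLib.Ideal
import Groth.Agent.QCohLib.Exact
import Groth.Agent.QCohLib.Coherent

/-!
# The ideal of an effective Weil divisor
-/

set_option autoImplicit false
set_option backward.isDefEq.respectTransparency false
set_option linter.style.haveILetI false
universe u
open CategoryTheory CategoryTheory.Limits AlgebraicGeometry TopologicalSpace Module
open Groth.Agent.PullbackMod

noncomputable section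

namespace Groth.Agent.RefOne

variable {X : Scheme.{u}}

/-- The sections vanishing to prescribed order at prescribed points. -/
def ordIdeal (E : X → ℕ) (W : X.affineOpens) : Ideal Γ(X, W.1) :=
  ⨅ (y : X) (hy : y ∈ W.1), (IsLocalRing.maximalIdeal (X.presheaf.stalk y) ^ E y).comap (X.presheaf.germ W.1 y hy).hom

theorem mem_ordIdeal {E : X → ℕ} {W : X.affineOpens} {a : Γ(X, W.1)} :
    a ∈ ordIdeal E W ↔ ∀ (y : X) (hy : y ∈ W.1),
      X.presheaf.germ W.1 y hy a ∈ IsLocalRing.maximalIdeal (X.presheaf.stalk y) ^ E y := by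
  simp only [ordIdeal, Ideal.mem_iInf, Ideal.mem_comap]

/-- The ideal sheaf of a locally finite family of multiplicities. -/
def ordIdealSheaf (E : X → ℕ) (hE : ∀ W : X.affineOpens, {y : X | y ∈ W.1 ∧ E y ≠ 0}.Finite) : X.IdealSheafData where
  ideal := ordIdeal E
  map_ideal_basicOpen U f := by
    classical
    refine le_antisymm (Ideal.map_le_iff_le_comap.2 fun a ha => ?_) fun b hb => ?_
    · rw [Ideal.mem_comap, mem_ordIdeal]
      intro y hy
      have h1 := mem_ordIdeal.1 ha y (X.basicOpen_le f hy)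
      exact (TopCat.Presheaf.germ_res_apply X.presheaf (homOfLE (X.basicOpen_le f)) y hy a).symm ▸ h1
    · letI : Algebra Γ(X, U.1) Γ(X, X.basicOpen f) := (X.presheaf.map (homOfLE (X.basicOpen_le f)).op).hom.toAlgebra
      haveI : IsLocalization.Away f Γ(X, X.basicOpen f) := U.2.isLocalization_basicOpen f
      obtain ⟨⟨a, ⟨_, n, rfl⟩⟩, hab⟩ := IsLocalization.surj (Submonoid.powers f) (show Γ(X, X.basicOpen f) from b)
      let N := (hE U).toFinset.sup E
      refine (IsLocalization.mem_map_algebraMap_iff (Submonoid.powers f) Γ(X, X.basicOpen f)).2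
        ⟨⟨⟨f ^ N * a, mem_ordIdeal.2 fun y hy => ?_⟩, ⟨f ^ (n + N), n + N, rfl⟩⟩, ?_⟩
      · rcases eq_or_ne (E y) 0 with h0 | h0
        · rw [h0, pow_zero, Ideal.one_eq_top]; trivial
        rw [map_mul]
        by_cases hyf : y ∈ X.basicOpen f
        · refine Ideal.mul_mem_left _ _ ?_
          have h1 := mem_ordIdeal.1 hb y hyf
          have h2 := congrArg (X.presheaf.germ (X.basicOpen f) y hyf) hab
          rw [map_mul] at h2
          rw [show X.presheaf.germ U.1 y hy a = X.presheaf.germ (X.basicOpen f) y hyf (algebraMap Γ(X, U.1) Γ(X, X.basicOpen f) a)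
            from (TopCat.Presheaf.germ_res_apply X.presheaf (homOfLE (X.basicOpen_le f)) y hyf a).symm, ← h2]
          exact Ideal.mul_mem_right _ _ h1
        · refine Ideal.mul_mem_right _ _ ?_
          have hle : E y ≤ N := Finset.le_sup (f := E) ((Set.Finite.mem_toFinset _).2 ⟨hy, h0⟩)
          rw [map_pow]
          refine Ideal.pow_le_pow_right hle (Ideal.pow_mem_pow ((IsLocalRing.mem_maximalIdeal _).2 fun hu => hyf ?_) N)
          exact (X.mem_basicOpen f y hy).2 hu
      · show (show Γ(X, X.basicOpen f) from b) * algebraMap Γ(X, U.1) Γ(X, X.basicOpen f) (f ^ (n + N)) =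
          algebraMap Γ(X, U.1) Γ(X, X.basicOpen f) (f ^ N * a)
        rw [pow_add, map_mul, map_mul, ← mul_assoc, hab, mul_comm]

variable [IsIntegral X] [IsLocallyNoetherian X]

theorem stalkIdeal_ordIdealSheaf (E : X → ℕ) (hE : ∀ W : X.affineOpens, {y : X | y ∈ W.1 ∧ E y ≠ 0}.Finite)
    (hcod : ∀ y, E y ≠ 0 → Order.coheight y = 1) {x : X} (hx : Order.coheight x ≤ 1) :
    IntMult.stalkIdeal (ordIdealSheaf E hE) x = IsLocalRing.maximalIdeal (X.presheaf.stalk x) ^ E x := by
  classical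
  obtain ⟨W, hW, hxW, -⟩ := exists_isAffineOpen_mem_and_subset (x := x) (U := (⊤ : X.Opens)) trivial
  rw [IdealStalkLib.stalkIdeal_eq _ ⟨W, hW⟩ x hxW]
  refine le_antisymm (Ideal.map_le_iff_le_comap.2 fun a ha => mem_ordIdeal.1 ha x hxW) ?_
  letI : Algebra Γ(X, W) (X.presheaf.stalk x) := TopCat.Presheaf.algebra_section_stalk X.presheaf ⟨x, hxW⟩
  haveI := hW.isLocalization_stalk ⟨x, hxW⟩
  let S := (hE ⟨W, hW⟩).toFinset.erase x
  have hmemS : ∀ y : S, y.1 ∈ W ∧ E y.1 ≠ 0 := fun y => (Set.Finite.mem_toFinset (hE ⟨W, hW⟩)).1 (Finset.mem_erase.1 y.2).2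
  have hex : ∀ y : S, ∃ c ∈ (hW.primeIdealOf ⟨y.1, (hmemS y).1⟩).asIdeal, c ∉ (hW.primeIdealOf ⟨x, hxW⟩).asIdeal := fun y => by
    refine Set.not_subset.1 fun hle => ?_
    have hsp : y.1 ⤳ x := by
      rw [← hW.fromSpec_primeIdealOf ⟨y.1, (hmemS y).1⟩]
      conv_rhs => rw [show x = hW.fromSpec (hW.primeIdealOf ⟨x, hxW⟩) from (hW.fromSpec_primeIdealOf ⟨x, hxW⟩).symm]
      exact ((PrimeSpectrum.le_iff_specializes _ _).1 hle).map hW.fromSpec.continuous
    have hne : y.1 ≠ x := (Finset.mem_erase.1 y.2).1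
    have h2 : Order.coheight y.1 + 1 ≤ Order.coheight x :=
      Order.coheight_add_one_le (lt_of_le_not_ge (show x ≤ y.1 from hsp) fun h' => hne (hsp.antisymm h').eq)
    rw [hcod y.1 (hmemS y).2] at h2
    exact absurd (h2.trans hx) (by decide)
  choose c hc hcx using hex
  let C := ∏ y : S, c y ^ E y.1
  have hCu : IsUnit (X.presheaf.germ W x hxW C) :=
    IsLocalization.map_units (X.presheaf.stalk x) (⟨C, Submonoid.prod_mem _ fun y _ => Submonoid.pow_mem _ (hcx y) _⟩ :
      (hW.primeIdealOf ⟨x, hxW⟩).asIdeal.primeCompl)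
  have hmul : ∀ d ∈ (hW.primeIdealOf ⟨x, hxW⟩).asIdeal ^ E x, C * d ∈ ordIdeal E ⟨W, hW⟩ := fun d hd => mem_ordIdeal.2 fun y hy => by
    rcases eq_or_ne (E y) 0 with h0 | h0
    · rw [h0, pow_zero, Ideal.one_eq_top]; trivial
    rw [map_mul]
    by_cases hyx : y = x
    · subst hyx
      refine Ideal.mul_mem_left _ _ ?_
      rw [← IsLocalization.AtPrime.map_eq_maximalIdeal (hW.primeIdealOf ⟨y, hxW⟩).asIdeal (X.presheaf.stalk y), ← Ideal.map_pow]
      exact Ideal.mem_map_of_mem _ hd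
    · refine Ideal.mul_mem_right _ _ ?_
      let y' : S := ⟨y, Finset.mem_erase.2 ⟨hyx, (Set.Finite.mem_toFinset _).2 ⟨hy, h0⟩⟩⟩
      obtain ⟨q, hq⟩ : c y' ^ E y ∣ C := Finset.dvd_prod_of_mem (fun z : S => c z ^ E z.1) (Finset.mem_univ y')
      rw [hq, map_mul, map_pow]
      refine Ideal.mul_mem_right _ _ (Ideal.pow_mem_pow ?_ _)
      letI : Algebra Γ(X, W) (X.presheaf.stalk y) := TopCat.Presheaf.algebra_section_stalk X.presheaf ⟨y, hy⟩
      haveI := hW.isLocalization_stalk ⟨y, hy⟩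
      exact (IsLocalization.AtPrime.to_map_mem_maximal_iff (X.presheaf.stalk y) (hW.primeIdealOf ⟨y, hy⟩).asIdeal (c y')).2 (hc y')
  rw [← IsLocalization.AtPrime.map_eq_maximalIdeal (hW.primeIdealOf ⟨x, hxW⟩).asIdeal (X.presheaf.stalk x), ← Ideal.map_pow,
    Ideal.map_le_iff_le_comap]
  intro d hd
  rw [Ideal.mem_comap]
  have h1 := Ideal.mem_map_of_mem (X.presheaf.germ W x hxW).hom (hmul d hd)
  rw [map_mul] at h1
  exact (Ideal.unit_mul_mem_iff_mem _ hCu).1 h1

omit [IsIntegral X] in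
theorem isCoh_idealMod (J : X.IdealSheafData) : Coh.IsCoh (ClSub.idealMod J) := by
  haveI := OmegaAffLib.isQCoh_idealMod J
  haveI : Mono (ClSub.idealModι J) := by unfold ClSub.idealModι; infer_instance
  exact QCohLib.isCoh_of_mono (ClSub.idealModι J) (DevLib.isCoh_structureModule X) inferInstance

omit [IsIntegral X] [IsLocallyNoetherian X] in
theorem idealModι_stalk (J : X.IdealSheafData) (x : X) :
    Function.Injective (stalkLin (ClSub.idealModι J) x) ∧
      ∀ r : X.presheaf.stalk x, (∃ m, stalkLin (ClSub.idealModι J) x m = oEquiv x r) ↔ r ∈ IntMult.stalkIdeal J x := by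
  haveI : Mono (ClSub.idealModι J) := by unfold ClSub.idealModι; infer_instance
  refine ⟨(mono_iff_stalk _).1 inferInstance x, fun r => ?_⟩
  obtain ⟨W, hW, hxW, -⟩ := exists_isAffineOpen_mem_and_subset (x := x) (U := (⊤ : X.Opens)) trivial
  haveI := OmegaAffLib.isQCoh_idealMod J
  letI : Algebra Γ(X, W) (X.presheaf.stalk x) := TopCat.Presheaf.algebra_section_stalk X.presheaf ⟨x, hxW⟩
  haveI := hW.isLocalization_stalk ⟨x, hxW⟩
  letI := Module.compHom ((ClSub.idealMod J).presheaf.stalk x) (X.presheaf.germ W x hxW).hom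
  haveI := FlatLocus.isLocalizedModule_germL (ClSub.idealMod J) hW x hxW
  have hgerm : ∀ a : Γ(X, W), (Coh.structureModule X).presheaf.germ W x hxW (OmegaSh.strSect X W a) = oEquiv x (X.presheaf.germ W x hxW a) := fun a => by
    show _ = X.presheaf.germ W x hxW a • ParaFLib.oneG x
    rw [ParaFLib.oneG, ← TopCat.Presheaf.germ_res_apply (Coh.structureModule X).presheaf (homOfLE (le_top : W ≤ ⊤)) x hxW, ← Mero.germ_smul]
    refine congrArg _ ?_
    show a = a * (X.presheaf.map (homOfLE (le_top : W ≤ ⊤)).op).hom 1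
    rw [map_one, mul_one]
  rw [IdealStalkLib.stalkIdeal_eq J ⟨W, hW⟩ x hxW]
  constructor
  · rintro ⟨m, hm⟩
    obtain ⟨⟨s, t⟩, hst⟩ := IsLocalizedModule.surj (hW.primeIdealOf ⟨x, hxW⟩).asIdeal.primeCompl
      (FlatLocus.germL (ClSub.idealMod J) W x hxW) m
    have hst' : X.presheaf.germ W x hxW t.1 • m = (ClSub.idealMod J).presheaf.germ W x hxW s := hst
    have h1 := congrArg (stalkLin (ClSub.idealModι J) x) hst'
    rw [map_smul, hm, stalkLin_germ] at h1
    have hu : IsUnit (X.presheaf.germ W x hxW t.1) :=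
      IsLocalization.map_units (X.presheaf.stalk x) t
    refine (Ideal.unit_mul_mem_iff_mem _ hu).1 ?_
    have h2 : OmegaSh.idealSect J W s ∈ J.ideal ⟨W, hW⟩ := (OmegaAffLib.mem_range_idealSect J ⟨W, hW⟩ _).2 ⟨s, rfl⟩
    rw [show X.presheaf.germ W x hxW t.1 * r = X.presheaf.germ W x hxW (OmegaSh.idealSect J W s) from ?_]
    · exact Ideal.mem_map_of_mem _ h2
    refine (oEquiv x).injective ?_
    rw [← smul_eq_mul, map_smul, h1, ← hgerm]
    rfl
  · intro hr
    obtain ⟨⟨⟨a, ha⟩, t⟩, hat⟩ := (IsLocalization.mem_map_algebraMap_iff (hW.primeIdealOf ⟨x, hxW⟩).asIdeal.primeCompl (X.presheaf.stalk x)).1 hr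
    obtain ⟨s, hs⟩ := (OmegaAffLib.mem_range_idealSect J ⟨W, hW⟩ a).1 ha
    obtain ⟨u, hu⟩ : IsUnit (X.presheaf.germ W x hxW t.1) := IsLocalization.map_units (X.presheaf.stalk x) t
    refine ⟨(↑u⁻¹ : X.presheaf.stalk x) • (ClSub.idealMod J).presheaf.germ W x hxW s, ?_⟩
    rw [map_smul, stalkLin_germ, show (ClSub.idealModι J).app W s = OmegaSh.strSect X W a from hs ▸ rfl, hgerm,
      ← map_smul, smul_eq_mul]
    refine congrArg _ ?_
    have h2 : r * X.presheaf.germ W x hxW t.1 = X.presheaf.germ W x hxW a := hat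
    rw [← h2, ← hu, mul_comm r, ← mul_assoc, Units.inv_mul, one_mul]

/-- An effective divisor is the negative of the divisor of the unit section of its ideal. -/
theorem exists_section_ord_neg (hX : Pi1.IsNormalScheme X) (E : X → ℕ)
    (hE : ∀ W : X.affineOpens, {y : X | y ∈ W.1 ∧ E y ≠ 0}.Finite) (hcod : ∀ y, E y ≠ 0 → Order.coheight y = 1) :
    ∃ (M : X.Modules) (_ : Coh.IsCoh M) (σ : M.presheaf.stalk (genericPoint X)), σ ≠ 0 ∧
      Function.Bijective (fun r : X.presheaf.stalk (genericPoint X) => r • σ) ∧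
      ∀ y : X, Order.coheight y = 1 → ∃ t : M.presheaf.stalk y, (Function.Bijective fun r : X.presheaf.stalk y => r • t) ∧
        Cyc.secOrdAt M (genericPoint X) y (spec_gen y) (Submodule.Quotient.mk σ) = -(E y : ℤ) := by
  let J := ordIdealSheaf E hE
  let η := genericPoint X
  have hc := isCoh_idealMod J
  haveI := hc.1
  have hη0 : E η = 0 := by
    by_contra h
    have h1 := hcod η h
    rw [Order.coheight_eq_zero.2 (fun z hz => (show z ≤ η from spec_gen z))] at h1
    exact zero_ne_one h1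
  have hcη : Order.coheight η ≤ 1 := by
    rw [Order.coheight_eq_zero.2 (fun z hz => (show z ≤ η from spec_gen z))]; exact zero_le
  obtain ⟨σ, hσ⟩ := ((idealModι_stalk J η).2 1).2 (by
    rw [stalkIdeal_ordIdealSheaf E hE hcod hcη, hη0, pow_zero, Ideal.one_eq_top]; trivial)
  have hbσ : Function.Bijective fun r : X.presheaf.stalk η => r • σ := by
    refine ⟨fun a b hab => ?_, fun m => ?_⟩
    · have h1 := congrArg (stalkLin (ClSub.idealModι J) η) hab
      dsimp only at h1
      rw [map_smul, map_smul, hσ, ← map_smul, ← map_smul, smul_eq_mul, smul_eq_mul, mul_one, mul_one] at h1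
      exact (oEquiv η).injective h1
    · obtain ⟨r, hr⟩ := (oEquiv η).surjective (stalkLin (ClSub.idealModι J) η m)
      refine ⟨r, (idealModι_stalk J η).1 ?_⟩
      dsimp only
      rw [map_smul, hσ, ← map_smul, smul_eq_mul, mul_one, hr]
  have hσ0 : σ ≠ 0 := fun h => by
    rw [h, map_zero] at hσ
    exact one_ne_zero ((oEquiv η).map_eq_zero_iff.1 hσ.symm)
  refine ⟨ClSub.idealMod J, hc, σ, hσ0, hbσ, fun y hy => ?_⟩
  haveI := isDVR hX hy
  obtain ⟨p, hp⟩ := IsDiscreteValuationRing.exists_irreducible (X.presheaf.stalk y)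
  obtain ⟨t, ht⟩ := ((idealModι_stalk J y).2 (p ^ E y)).2 (by
    rw [stalkIdeal_ordIdealSheaf E hE hcod hy.le, hp.maximalIdeal_eq, Ideal.span_singleton_pow]
    exact Ideal.mem_span_singleton_self _)
  have hbt : Function.Bijective fun r : X.presheaf.stalk y => r • t := by
    refine ⟨fun a b hab => ?_, fun m => ?_⟩
    · have h1 := congrArg (stalkLin (ClSub.idealModι J) y) hab
      dsimp only at h1
      rw [map_smul, map_smul, ht, ← map_smul, ← map_smul, smul_eq_mul, smul_eq_mul] at h1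
      exact mul_right_cancel₀ (pow_ne_zero _ hp.ne_zero) ((oEquiv y).injective h1)
    · obtain ⟨r, hr⟩ := (oEquiv y).surjective (stalkLin (ClSub.idealModι J) y m)
      have h1 : r ∈ IntMult.stalkIdeal J y := ((idealModι_stalk J y).2 r).1 ⟨m, hr.symm⟩
      rw [stalkIdeal_ordIdealSheaf E hE hcod hy.le, hp.maximalIdeal_eq, Ideal.span_singleton_pow, Ideal.mem_span_singleton'] at h1
      obtain ⟨q, rfl⟩ := h1
      refine ⟨q, (idealModι_stalk J y).1 ?_⟩
      dsimp only
      rw [map_smul, ht, ← map_smul, smul_eq_mul, hr]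
  refine ⟨t, hbt, ?_⟩
  let P : X.functionField := toK y (p ^ E y)
  have hP : P ≠ 0 := fun h => pow_ne_zero _ hp.ne_zero (toK_injective y (h.trans (map_zero _).symm))
  have hφ : σ = (show X.presheaf.stalk η from P⁻¹) • toGen (ClSub.idealMod J) y t := by
    refine (idealModι_stalk J η).1 ?_
    rw [map_smul, stalkLin_toGen, ht, hσ, toGen_oEquiv, ← map_smul, smul_eq_mul]
    exact congrArg _ (inv_mul_cancel₀ hP).symm
  rw [secOrdAt_eq hy σ (span_of_bijective hbt) (toGen_ne_zero hbt) hφ]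
  show Scheme.ord P⁻¹ y = _
  rw [scheme_ord_inv hP, scheme_ord_toK hy (pow_ne_zero _ hp.ne_zero), Ring.ord_eq_addVal, hp.addVal_pow]
  rfl

end Groth.Agent.RefOne
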