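import Groth.Agent.RefOne.Class

/-!
# Local finiteness of the divisor of a rational section
-/

set_option autoImplicit false
set_option backward.isDefEq.respectTransparency false
set_option linter.style.haveILetI false
universe u
open CategoryTheory CategoryTheory.Limits AlgebraicGeometry TopologicalSpace Module

noncomputable section

namespace Groth.Agent.RefOne

variable {X : Scheme.{u}} [IsIntegral X] [IsLocallyNoetherian X]

theorem finite_codim_one_compl (U : X.Opens) (hU : genericPoint X ∈ U) {V : X.Opens} (hV : IsAffineOpen V) :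
    {y : X | Order.coheight y = 1 ∧ y ∈ V ∧ y ∉ U}.Finite := by
  rcases Set.eq_empty_or_nonempty (V : Set X) with hempty | ⟨v, hv⟩
  · exact (Set.finite_empty).subset fun y hy => hempty ▸ hy.2.1
  have hgV : genericPoint X ∈ V := (spec_gen v).mem_open V.2 hv
  haveI : Nonempty V := ⟨⟨v, hv⟩⟩
  obtain ⟨b, hb, hgb⟩ := hV.exists_basicOpen_le (V := U) ⟨genericPoint X, hU⟩ hgV
  have hb0 : b ≠ 0 := fun h => by
    rw [h] at hgb
    simp at hgb
  haveI : IsNoetherianRing Γ(X, V) := IsLocallyNoetherian.component_noetherian ⟨V, hV⟩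
  haveI : IsDomain Γ(X, V) := inferInstance
  let S := {y : X | Order.coheight y = 1 ∧ y ∈ V ∧ y ∉ U}
  have key : ∀ y : S, (hV.primeIdealOf ⟨y.1, y.2.2.1⟩).asIdeal ∈ (Ideal.span {b}).minimalPrimes := fun ⟨y, hy, hyV, hyU⟩ => by
    have hloc := hV.isLocalization_stalk ⟨y, hyV⟩
    letI := (X.presheaf.germ V y hyV).hom.toAlgebra
    haveI : IsLocalization.AtPrime (X.presheaf.stalk y) (hV.primeIdealOf ⟨y, hyV⟩).asIdeal := hloc
    set p := (hV.primeIdealOf ⟨y, hyV⟩).asIdeal
    have hbp : b ∈ p := by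
      by_contra hbp
      refine hyU (hb ?_)
      rw [Scheme.mem_basicOpen X b y hyV]
      exact (IsLocalization.AtPrime.isUnit_to_map_iff (X.presheaf.stalk y) p b).2 hbp
    have hp : p.height = 1 := by
      have h1 := IsLocalization.AtPrime.ringKrullDim_eq_height p (X.presheaf.stalk y)
      rw [ringKrullDim_stalk_eq_coheight, hy] at h1
      exact_mod_cast h1.symm
    refine Ideal.mem_minimalPrimes_of_height_eq ((Ideal.span_singleton_le_iff_mem _).2 hbp) ?_
    have hu' : ¬ IsUnit b := fun hu' => (hV.primeIdealOf ⟨y, hyV⟩).isPrime.ne_top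
      (Ideal.eq_top_of_isUnit_mem _ hbp hu')
    rw [hp, Ideal.height_span_singleton_eq_one_of_mem_nonZeroDivisors
      (mem_nonZeroDivisors_of_ne_zero hb0) hu']
  let F : S → (Ideal.span {b}).minimalPrimes := fun y => ⟨_, key y⟩
  haveI : Finite ((Ideal.span {b}).minimalPrimes) :=
    (Ideal.finite_minimalPrimes_of_isNoetherianRing _ _).to_subtype
  have hF : Function.Injective F := fun y z h => by
    have h1 : hV.primeIdealOf ⟨y.1, y.2.2.1⟩ = hV.primeIdealOf ⟨z.1, z.2.2.1⟩ := PrimeSpectrum.ext (congrArg Subtype.val h)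
    have h2 := congrArg hV.fromSpec h1
    rw [hV.fromSpec_primeIdealOf, hV.fromSpec_primeIdealOf] at h2
    exact Subtype.ext h2
  haveI := Finite.of_injective F hF
  exact Set.toFinite S

/-- A rational section has no zeros and poles in codimension one on some nonempty open. -/
theorem exists_open_secOrdAt_eq_zero {F : X.Modules} (hF : RefHull.GenInvertible F)
    {σ : F.presheaf.stalk (genericPoint X)} (hσ : σ ≠ 0) :
    ∃ U : X.Opens, genericPoint X ∈ U ∧ ∀ y ∈ U, Order.coheight y = 1 →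
      Cyc.secOrdAt F (genericPoint X) y (spec_gen y) (Submodule.Quotient.mk σ) = 0 := by
  obtain ⟨U₀, hU, hinv⟩ := hF
  obtain ⟨u, hu⟩ := hU.nonempty
  have hη : genericPoint X ∈ U₀ := (spec_gen u).mem_open U₀.2 hu
  obtain ⟨W₀, s, hW₀, hs⟩ := ParaFLib.exists_gen_nhd hinv ⟨genericPoint X, hη⟩
  have hgen := (ParaFLib.gen_restrict_iff U₀.ι s).1 hs
  have hηW : genericPoint X ∈ U₀.ι ''ᵁ W₀ := ⟨_, hW₀, rfl⟩
  obtain ⟨φ, hφ⟩ := (hgen.bijective_germ _ hηW).2 σ
  have hφ0 : φ ≠ 0 := fun h => hσ (by rw [← hφ, h]; exact zero_smul _ _)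
  obtain ⟨V, -, f, hVne, hf, hu'⟩ := exists_isUnit_germ_eq X (show X.functionField from φ) hφ0
  haveI := hVne
  obtain ⟨⟨v, hv⟩⟩ := hVne
  refine ⟨U₀.ι ''ᵁ W₀ ⊓ V, ⟨hηW, (spec_gen v).mem_open V.2 hv⟩, fun y hy hy1 => ?_⟩
  have hb := hgen.bijective_germ y hy.1
  have ht : toGen F y (F.presheaf.germ _ y hy.1 (show Γ(F, U₀.ι ''ᵁ W₀) from s)) =
      F.presheaf.germ _ (genericPoint X) hηW (show Γ(F, U₀.ι ''ᵁ W₀) from s) := toGen_germ F y hy.1 _
  rw [secOrdAt_eq hy1 σ (span_of_bijective hb) (by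
    rw [ht]; exact fun h0 => hσ (by rw [← hφ]; exact (congrArg (φ • ·) h0).trans (smul_zero φ))) (φ := φ) (by
    rw [ht]; exact hφ.symm), ← hf]
  exact Scheme.ord_of_isUnit hu' hy.2

theorem locallyFinite_secOrdAt {F : X.Modules} (hF : RefHull.GenInvertible F) {σ : F.presheaf.stalk (genericPoint X)}
    (hσ : σ ≠ 0) (x : X) : ∃ V : X.Opens, x ∈ V ∧ {y : X | Order.coheight y = 1 ∧ y ∈ V ∧
      Cyc.secOrdAt F (genericPoint X) y (spec_gen y) (Submodule.Quotient.mk σ) ≠ 0}.Finite := by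
  obtain ⟨U, hU, h⟩ := exists_open_secOrdAt_eq_zero hF hσ
  obtain ⟨V, hV, hx, -⟩ := exists_isAffineOpen_mem_and_subset (x := x) (U := (⊤ : X.Opens)) trivial
  exact ⟨V, hx, (finite_codim_one_compl U hU hV).subset fun y hy => ⟨hy.1, hy.2.1, fun hyU => hy.2.2 (h y hyU hy.1)⟩⟩

theorem secOrdAt_smul {F : X.Modules} {y : X} (hy : Order.coheight y = 1) {t : F.presheaf.stalk y}
    (ht : Submodule.span (X.presheaf.stalk y) {t} = ⊤) (ht0 : toGen F y t ≠ 0)
    (σ : F.presheaf.stalk (genericPoint X)) (hσ : ∃ φ : X.presheaf.stalk (genericPoint X), σ = φ • toGen F y t)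
    (hσ0 : σ ≠ 0) {f : X.presheaf.stalk (genericPoint X)} (hf : f ≠ 0) :
    Cyc.secOrdAt F (genericPoint X) y (spec_gen y) (Submodule.Quotient.mk (f • σ)) =
      Scheme.ord (show X.functionField from f) y +
        Cyc.secOrdAt F (genericPoint X) y (spec_gen y) (Submodule.Quotient.mk σ) := by
  obtain ⟨φ, hφ⟩ := hσ
  rw [secOrdAt_eq hy σ ht ht0 hφ, secOrdAt_eq hy (f • σ) ht ht0 (φ := f * φ) (by rw [hφ, mul_smul])]
  exact Scheme.ord_mul (show (show X.functionField from f) ≠ 0 from hf)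
    (show (show X.functionField from φ) ≠ 0 from fun h => hσ0 (by rw [hφ, show φ = 0 from h, zero_smul]))

end Groth.Agent.RefOne
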