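import Groth.Agent.RefOne.Normal
import Groth.Agent.AssLib.Morph
import Groth.Agent.AssLib.Push
import Groth.Agent.S1575
import Groth.Agent.CAlgBasics.Depth
import Groth.Agent.ParaFLib.Depth
import Groth.Agent.DCohLib.StalkRestrictFree
import Groth.Agent.ProjBundleLib.FTQuot

/-!
# Reflexive modules and big open subsets
-/

set_option autoImplicit false
set_option backward.isDefEq.respectTransparency false
set_option linter.style.haveILetI false
universe u
open CategoryTheory CategoryTheory.Limits AlgebraicGeometry TopologicalSpace Module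
open Groth.Agent.PullbackMod

noncomputable section

namespace Groth.Agent.RefOne

theorem isReflexive_of_semilinear {R S M N : Type u} [CommRing R] [CommRing S] [AddCommGroup M] [Module R M]
    [AddCommGroup N] [Module S N] (σ : R ≃+* S) (e : M ≃+ N) (h : ∀ r m, e (r • m) = σ r • e m)
    [Module.IsReflexive S N] : Module.IsReflexive R M := by
  have h' : ∀ s n, e.symm (s • n) = σ.symm s • e.symm n := fun s n => e.injective (by
    rw [h, e.apply_symm_apply, e.apply_symm_apply, σ.apply_symm_apply])
  let T : Dual S N → Dual R M := fun ψ =>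
    { toFun := fun m => σ.symm (ψ (e m))
      map_add' := fun a b => by simp
      map_smul' := fun r a => by simp [h] }
  let T' : Dual R M → Dual S N := fun φ =>
    { toFun := fun n => σ (φ (e.symm n))
      map_add' := fun a b => by simp
      map_smul' := fun r a => by simp [h'] }
  have hTT : ∀ φ, T (T' φ) = φ := fun φ => LinearMap.ext fun m => by simp [T, T']
  refine ⟨fun a b hab => e.injective ((Module.bijective_dual_eval S N).1 (LinearMap.ext fun ψ => ?_)), fun Φ => ?_⟩
  · have h1 := LinearMap.congr_fun hab (T ψ)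
    exact σ.symm.injective h1
  · let Ψ : Dual S (Dual S N) :=
      { toFun := fun ψ => σ (Φ (T ψ))
        map_add' := fun a b => by
          rw [show T (a + b) = T a + T b from LinearMap.ext fun m => by simp [T], map_add, map_add]
        map_smul' := fun s a => by
          rw [show T (s • a) = σ.symm s • T a from LinearMap.ext fun m => by simp [T], map_smul, smul_eq_mul, map_mul,
            RingEquiv.apply_symm_apply]
          rfl }
    obtain ⟨n, hn⟩ := (Module.bijective_dual_eval S N).2 Ψ
    refine ⟨e.symm n, LinearMap.ext fun φ => σ.injective ?_⟩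
    have h1 : σ (φ (e.symm n)) = σ (Φ (T (T' φ))) := LinearMap.congr_fun hn (T' φ)
    rw [hTT] at h1
    exact h1

variable {X : Scheme.{u}}

theorem isReflexiveAt_restrict_iff {Y : Scheme.{u}} (f : Y ⟶ X) [IsOpenImmersion f] (M : X.Modules) (y : Y) :
    RefHull.IsReflexiveAt ((Scheme.Modules.restrictFunctor f).obj M) y ↔ RefHull.IsReflexiveAt M (f y) := by
  let σ := (asIso (f.stalkMap y)).commRingCatIsoToRingEquiv
  let e : ((Scheme.Modules.restrictFunctor f).obj M).presheaf.stalk y ≃+ M.presheaf.stalk (f y) :=
    ((Scheme.Modules.restrictStalkNatIso f y).app M).addCommGroupIsoToAddEquiv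
  have h : ∀ c m, e (c • m) = σ.symm c • e m := DCohLib.restrictStalk_smul f M y
  constructor
  · intro hr
    haveI : Module.IsReflexive (Y.presheaf.stalk y) (((Scheme.Modules.restrictFunctor f).obj M).presheaf.stalk y) := hr
    exact isReflexive_of_semilinear σ e.symm fun r m => e.injective (by
      rw [h, σ.symm_apply_apply, e.apply_symm_apply, e.apply_symm_apply])
  · intro hr
    haveI : Module.IsReflexive (X.presheaf.stalk (f y)) (M.presheaf.stalk (f y)) := hr
    exact isReflexive_of_semilinear σ.symm e h

variable [IsLocallyNoetherian X]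

theorem isIso_unit [IsIntegral X] (U : X.Opens) {F : X.Modules} (hF : Coh.IsCoh F)
    (hr : ∀ x, RefHull.IsReflexiveAt F x)
    (hU : ∀ x : X, x ∉ U → (2 : ℕ∞) ≤ LocCoh.depth (X.presheaf.stalk x) (X.presheaf.stalk x)) :
    IsIso ((Scheme.Modules.restrictAdjunction U.ι).unit.app F) := by
  haveI := hF.1
  haveI : Coh.IsQCoh ((Scheme.Modules.restrictFunctor U.ι).obj F) := inferInstance
  haveI : Coh.IsQCoh ((Scheme.Modules.pushforward U.ι).obj ((Scheme.Modules.restrictFunctor U.ι).obj F)) :=
    QCohLib.isQCoh_pushforward _ U.ι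
  haveI : Coh.IsQCoh ((𝟭 X.Modules).obj F) := hF.1
  haveI : Coh.IsQCoh ((Scheme.Modules.restrictFunctor U.ι ⋙ Scheme.Modules.pushforward U.ι).obj F) := by
    assumption
  refine AssLib.isIso_of_depth _ hF fun x => ?_
  by_cases hx : x ∈ U
  · exact Or.inl (S1575.unit_stalk_bijective U.ι F (by rw [Scheme.Opens.opensRange_ι]; exact hx))
  · refine Or.inr ⟨?_, fun hass => hx ?_⟩
    · haveI : Module.IsReflexive (X.presheaf.stalk x) (F.presheaf.stalk x) := hr x
      haveI := PullbackMod.finite_stalk_of_isFT hF.2 x
      have h1 := CAlgBasics.two_le_depth_linearMap (R := X.presheaf.stalk x)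
        (M := Dual (X.presheaf.stalk x) (F.presheaf.stalk x)) (N := X.presheaf.stalk x) (hU x hx)
      show (2 : ℕ∞) ≤ LocCoh.depth (X.presheaf.stalk x) (F.presheaf.stalk x)
      rwa [CAlgBasics.depth_congr (M := F.presheaf.stalk x)
        (N := Dual (X.presheaf.stalk x) (Dual (X.presheaf.stalk x) (F.presheaf.stalk x)))
        (Module.evalEquiv (X.presheaf.stalk x) (F.presheaf.stalk x))]
    · obtain ⟨y, rfl, -⟩ := AssLib.exists_isWeakAssPoint_of_push U.ι ((Scheme.Modules.restrictFunctor U.ι).obj F)
        ((AssLib.isWeakAssPoint_iff_isAssPoint _ x).mpr hass)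
      exact y.2

/-- The biduality map is an isomorphism after restriction to an open with reflexive stalks. -/
theorem isIso_restrict_bidual (U : X.Opens) {F : X.Modules} (hF : Coh.IsCoh F)
    (hr : ∀ x ∈ U, RefHull.IsReflexiveAt F x) :
    IsIso ((Scheme.Modules.restrictFunctor U.ι).map (RefHull.bidualMap F)) := by
  refine (isIso_iff_stalk _).2 fun x => ?_
  have hb := (bijective_bidual_stalk_iff hF (U.ι x)).2 (hr _ x.2)
  have hn : ⇑(((Scheme.Modules.restrictStalkNatIso U.ι x).app (RefHull.ddual F)).addCommGroupIsoToAddEquiv) ∘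
      stalkLin ((Scheme.Modules.restrictFunctor U.ι).map (RefHull.bidualMap F)) x =
      stalkLin (RefHull.bidualMap F) (U.ι x) ∘
        ⇑(((Scheme.Modules.restrictStalkNatIso U.ι x).app F).addCommGroupIsoToAddEquiv) := funext fun m => by
    exact ConcreteCategory.congr_hom ((Scheme.Modules.restrictStalkNatIso U.ι x).hom.naturality (RefHull.bidualMap F)) m
  refine (((Scheme.Modules.restrictStalkNatIso U.ι x).app (RefHull.ddual F)).addCommGroupIsoToAddEquiv.bijective.of_comp_iff' _).1 ?_
  rw [hn]
  exact hb.comp (AddEquiv.bijective _)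

/-- A coherent module that is reflexive on a big open and extends from it is its reflexive hull. -/
theorem isIso_bidual_of_unit [IsIntegral X] (U : X.Opens) {F : X.Modules} (hF : Coh.IsCoh F)
    (hr : ∀ x ∈ U, RefHull.IsReflexiveAt F x)
    (hU : ∀ x : X, x ∉ U → (2 : ℕ∞) ≤ LocCoh.depth (X.presheaf.stalk x) (X.presheaf.stalk x))
    (hunit : IsIso ((Scheme.Modules.restrictAdjunction U.ι).unit.app F)) : IsIso (RefHull.bidualMap F) := by
  haveI := hunit
  haveI := isIso_restrict_bidual U hF hr
  haveI := isIso_unit U (isCoh_dual (isCoh_dual hF)) ((isReflexive_iff (isCoh_dual (isCoh_dual hF))).1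
    (isReflexive_dual (isCoh_dual hF))) hU
  haveI : IsIso ((Scheme.Modules.pushforward U.ι).map ((Scheme.Modules.restrictFunctor U.ι).map (RefHull.bidualMap F))) :=
    inferInstance
  haveI : IsIso (RefHull.bidualMap F ≫ (Scheme.Modules.restrictAdjunction U.ι).unit.app (RefHull.ddual F)) := by
    rw [show RefHull.bidualMap F ≫ (Scheme.Modules.restrictAdjunction U.ι).unit.app (RefHull.ddual F) =
      (Scheme.Modules.restrictAdjunction U.ι).unit.app F ≫
        (Scheme.Modules.pushforward U.ι).map ((Scheme.Modules.restrictFunctor U.ι).map (RefHull.bidualMap F)) from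
      (Scheme.Modules.restrictAdjunction U.ι).unit.naturality (RefHull.bidualMap F)]
    exact IsIso.comp_isIso' hunit this
  exact IsIso.of_isIso_comp_right (RefHull.bidualMap F) ((Scheme.Modules.restrictAdjunction U.ι).unit.app (RefHull.ddual F))

end Groth.Agent.RefOne
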