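import Groth.Agent.RefOne.Support
import Groth.Agent.RefOne.Extend
import Groth.Agent.SecTwistBridge.Basic
import Groth.Prelude.Def_RefPow

/-!
# Reflexive powers of a section, and the comparison with `j_* O_U`
-/

set_option autoImplicit false
set_option backward.isDefEq.respectTransparency false
set_option linter.style.haveILetI false
universe u
open CategoryTheory CategoryTheory.Limits AlgebraicGeometry TopologicalSpace Module
open Groth.Agent.PullbackMod Groth.Agent.DCohLib
open scoped TensorProduct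

noncomputable section

namespace Groth.Agent.RefOne

variable {X : Scheme.{u}} {F : X.Modules} (s : Coh.structureModule X ⟶ F)

theorem sPowGerm_eq (n : ℕ) (x : X) :
    RefPow.sPowGerm s n x = stalkLin (RefPow.sPow s n) x (ParaFLib.oneG x) :=
  (stalkLin_germ (RefPow.sPow s n) (U := (⊤ : X.Opens)) x trivial (1 : Γ(X, ⊤))).symm

theorem sPowGerm_succ (n : ℕ) (x : X) :
    RefPow.sPowGerm s (n + 1) x = stalkLin (RefPow.mulBy s n) x (RefPow.sPowGerm s n x) := by
  rw [sPowGerm_eq, sPowGerm_eq, RefPow.sPow_succ, stalkLin_comp, LinearMap.comp_apply]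

theorem germ_one {U : X.Opens} (x : X) (hx : x ∈ U) :
    (Coh.structureModule X).presheaf.germ U x hx (1 : Γ(X, U)) = ParaFLib.oneG x := by
  rw [ParaFLib.oneG, ← TopCat.Presheaf.germ_res_apply (Coh.structureModule X).presheaf (homOfLE (le_top : U ≤ ⊤)) x hx]
  exact congrArg _ (map_one (X.presheaf.map (homOfLE (le_top : U ≤ ⊤)).op).hom).symm

theorem mulBy_stalk (n : ℕ) (x : X) (m : (RefPow.refPow F (n + 1)).presheaf.stalk x) :
    stalkLin (RefPow.mulBy s (n + 1)) x m =
      stalkLin (RefHull.bidualMap (tmod (RefPow.refPow F (n + 1)) F)) x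
        (stalkTensor x (RefPow.refPow F (n + 1)) F (m ⊗ₜ stalkLin s x (ParaFLib.oneG x))) := by
  obtain ⟨U, hx, t, rfl⟩ := TopCat.Presheaf.exists_germ_eq (RefPow.refPow F (n + 1)).presheaf m
  rw [← germ_one (U := U) x hx]
  refine (stalkLin_germ (RefPow.mulBy s (n + 1)) x hx t).trans ?_
  rw [RefPow.mulBy_succ_app, stalkLin_germ s x hx, ← AmpleLib.germ_pairS, stalkLin_germ]
  rfl

variable [IsIntegral X] [IsLocallyNoetherian X]

theorem isRef1_structureModule : RefHull.IsRef1 (Coh.structureModule X) :=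
  ⟨DevLib.isCoh_structureModule X, (isReflexive_iff (DevLib.isCoh_structureModule X)).2 fun x => Module.equiv (oEquiv x),
    genInvertible_of_gen (DevLib.isCoh_structureModule X) (ParaFLib.bijective_oneG _)⟩

theorem isRef1_refPow (hF : RefHull.IsRef1 F) : ∀ n, RefHull.IsRef1 (RefPow.refPow F n)
  | 0 => isRef1_structureModule
  | 1 => hF
  | n + 2 => isRef1_ddual_tensor (isRef1_refPow hF (n + 1)) hF

theorem toGen_sPowGerm (n : ℕ) (x : X) :
    toGen (RefPow.refPow F n) x (RefPow.sPowGerm s n x) = RefPow.sPowGerm s n (genericPoint X) :=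
  toGen_germ _ (U := (⊤ : X.Opens)) x trivial _

/-- The section in terms of a generator propagates to the powers. -/
theorem exists_sPowGerm_gen (hF : RefHull.IsRef1 F) {x : X} {t : F.presheaf.stalk x}
    (ht : Function.Bijective fun r : X.presheaf.stalk x => r • t) {c : X.presheaf.stalk x}
    (hc : stalkLin s x (ParaFLib.oneG x) = c • t) :
    ∀ n, ∃ tn : (RefPow.refPow F n).presheaf.stalk x, (Function.Bijective fun r : X.presheaf.stalk x => r • tn) ∧
      RefPow.sPowGerm s n x = c ^ n • tn := by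
  intro n
  induction n with
  | zero =>
    refine ⟨ParaFLib.oneG x, ParaFLib.bijective_oneG x, ?_⟩
    rw [sPowGerm_eq, pow_zero, one_smul, RefPow.sPow_zero, stalkLin_id]
    rfl
  | succ n ih =>
    rcases n with _ | n
    · refine ⟨t, ht, ?_⟩
      have h := sPowGerm_eq s 1 x
      rw [RefPow.sPow_one] at h
      refine h.trans (hc.trans ?_)
      show c • t = c ^ 1 • t
      rw [pow_one]
    obtain ⟨tn, htn, hs⟩ := ih
    have hb := AmpleLib.bijective_stalkTensor htn ht
    have hcoh := CurveLib.isCoh_tmod (isRef1_refPow hF (n + 1)).1 hF.1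
    refine ⟨stalkLin (RefHull.bidualMap (tmod (RefPow.refPow F (n + 1)) F)) x (stalkTensor x _ _ (tn ⊗ₜ t)), ?_, ?_⟩
    · have h2 := (bijective_bidual_of_bijective hcoh hb).comp hb
      rw [show (fun r : X.presheaf.stalk x => r • stalkLin (RefHull.bidualMap (tmod (RefPow.refPow F (n + 1)) F)) x (stalkTensor x _ _ (tn ⊗ₜ t))) =
        stalkLin (RefHull.bidualMap (tmod (RefPow.refPow F (n + 1)) F)) x ∘ fun r : X.presheaf.stalk x => r • stalkTensor x _ _ (tn ⊗ₜ t) from
          funext fun r => (map_smul _ r _).symm]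
      exact h2
    · rw [sPowGerm_succ, mulBy_stalk, hs, hc, TensorProduct.smul_tmul_smul, map_smul, map_smul, pow_succ c (n + 1)]

/-- At a point of the locus where `s` generates, every power generates. -/
theorem bijective_sPowGerm (hF : RefHull.IsRef1 F) {x : X} (hx : x ∈ RefPow.isoLocus s) (n : ℕ) :
    Function.Bijective fun r : X.presheaf.stalk x => r • RefPow.sPowGerm s n x := by
  have hb : Function.Bijective fun r : X.presheaf.stalk x => r • stalkLin s x (ParaFLib.oneG x) := by
    rw [show (fun r : X.presheaf.stalk x => r • stalkLin s x (ParaFLib.oneG x)) = stalkLin s x ∘ fun r : X.presheaf.stalk x => r • ParaFLib.oneG x from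
      funext fun r => (map_smul _ r _).symm]
    exact (show Function.Bijective (stalkLin s x) from hx).comp (ParaFLib.bijective_oneG x)
  obtain ⟨tn, htn, h⟩ := exists_sPowGerm_gen s hF hb (c := 1) (one_smul _ _).symm n
  rw [one_pow, one_smul] at h
  rw [h]
  exact htn

theorem bijective_sPow_stalk (hF : RefHull.IsRef1 F) {x : X} (hx : x ∈ RefPow.isoLocus s) (n : ℕ) :
    Function.Bijective (stalkLin (RefPow.sPow s n) x) := by
  refine ((ParaFLib.bijective_oneG x).of_comp_iff (stalkLin (RefPow.sPow s n) x)).1 ?_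
  rw [show stalkLin (RefPow.sPow s n) x ∘ (fun r : X.presheaf.stalk x => r • ParaFLib.oneG x) =
    fun r : X.presheaf.stalk x => r • RefPow.sPowGerm s n x from funext fun r => by
      rw [Function.comp_apply, map_smul, sPowGerm_eq]]
  exact bijective_sPowGerm s hF hx n

/-- If `s` vanishes at the generic point all transition maps vanish. -/
theorem mulBy_eq_zero (hF : RefHull.IsRef1 F) (h0 : stalkLin s (genericPoint X) (ParaFLib.oneG _) = 0) (n : ℕ) :
    RefPow.mulBy s n = 0 := by
  refine hom_ext_generic (isRef1_refPow hF (n + 1)).1 (isRef1_refPow hF (n + 1)).2.1 (LinearMap.ext fun m => ?_)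
  rw [(eq_zero_iff_stalk (0 : RefPow.refPow F n ⟶ RefPow.refPow F (n + 1))).1 rfl, LinearMap.zero_apply]
  rcases n with _ | n
  · obtain ⟨r, rfl⟩ := (oEquiv (genericPoint X)).surjective m
    show stalkLin s (genericPoint X) (r • ParaFLib.oneG _) = 0
    rw [map_smul, h0, smul_zero]
  · rw [mulBy_stalk, h0, TensorProduct.tmul_zero, map_zero, map_zero]

omit [IsLocallyNoetherian X] in
theorem generic_mem_of_mem {U : X.Opens} {x : X} (hx : x ∈ U) : genericPoint X ∈ U := (spec_gen x).mem_open U.2 hx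

theorem isoLocus_eq_empty (hF : RefHull.IsRef1 F) (h0 : stalkLin s (genericPoint X) (ParaFLib.oneG _) = 0)
    (U : X.Opens) (hU : (U : Set X) = RefPow.isoLocus s) (x : X) : x ∉ U := fun hx => by
  have h : genericPoint X ∈ RefPow.isoLocus s := hU ▸ generic_mem_of_mem hx
  have h1 := (show Function.Bijective (stalkLin s (genericPoint X)) from h).1 (h0.trans (map_zero _).symm)
  exact one_ne_zero (α := X.presheaf.stalk (genericPoint X))
    ((ParaFLib.bijective_oneG (genericPoint X)).1 ((congrArg ((1 : X.presheaf.stalk (genericPoint X)) • ·) h1).trans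
      ((smul_zero _).trans (zero_smul _ _).symm)))

theorem ne_zero_of_mem (hF : RefHull.IsRef1 F) {U : X.Opens} (hU : (U : Set X) = RefPow.isoLocus s)
    (hη : genericPoint X ∈ U) : stalkLin s (genericPoint X) (ParaFLib.oneG _) ≠ 0 := fun h0 =>
  isoLocus_eq_empty s hF h0 U hU _ hη

/-! ## The comparison maps into `j_* O_U` -/

section Cocone

variable (U : X.Opens)

/-- `j_* O_U`. -/
abbrev jO : X.Modules := (Scheme.Modules.pushforward U.ι).obj ((Coh.structureModule X).restrict U.ι)

/-- The unit `O_X ⟶ j_* O_U`. -/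
abbrev uO : Coh.structureModule X ⟶ jO U := (Scheme.Modules.restrictAdjunction U.ι).unit.app (Coh.structureModule X)

theorem isIso_restrict_sPow (hF : RefHull.IsRef1 F) (hU : (U : Set X) = RefPow.isoLocus s) (n : ℕ) :
    IsIso ((Scheme.Modules.restrictFunctor U.ι).map (RefPow.sPow s n)) := by
  refine (isIso_iff_stalk _).2 fun x => ?_
  have hb := bijective_sPow_stalk s hF (x := U.ι x) (hU ▸ x.2) n
  have hn : ⇑(((Scheme.Modules.restrictStalkNatIso U.ι x).app (RefPow.refPow F n)).addCommGroupIsoToAddEquiv) ∘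
      stalkLin ((Scheme.Modules.restrictFunctor U.ι).map (RefPow.sPow s n)) x =
      stalkLin (RefPow.sPow s n) (U.ι x) ∘
        ⇑(((Scheme.Modules.restrictStalkNatIso U.ι x).app (Coh.structureModule X)).addCommGroupIsoToAddEquiv) := funext fun m => by
    exact ConcreteCategory.congr_hom ((Scheme.Modules.restrictStalkNatIso U.ι x).hom.naturality (RefPow.sPow s n)) m
  refine (((Scheme.Modules.restrictStalkNatIso U.ι x).app (RefPow.refPow F n)).addCommGroupIsoToAddEquiv.bijective.of_comp_iff' _).1 ?_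
  rw [hn]
  exact hb.comp (AddEquiv.bijective _)

variable {U}

/-- The comparison map `F^[n] ⟶ j_* O_U`, "division by `s^n`". -/
def leg (hF : RefHull.IsRef1 F) (hU : (U : Set X) = RefPow.isoLocus s) (n : ℕ) : RefPow.refPow F n ⟶ jO U :=
  haveI := isIso_restrict_sPow s U hF hU n
  (Scheme.Modules.restrictAdjunction U.ι).unit.app (RefPow.refPow F n) ≫
    (Scheme.Modules.pushforward U.ι).map (inv ((Scheme.Modules.restrictFunctor U.ι).map (RefPow.sPow s n)))

theorem sPow_leg (hF : RefHull.IsRef1 F) (hU : (U : Set X) = RefPow.isoLocus s) (n : ℕ) :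
    RefPow.sPow s n ≫ leg s hF hU n = uO U := by
  haveI := isIso_restrict_sPow s U hF hU n
  rw [leg, ← Category.assoc]
  erw [(Scheme.Modules.restrictAdjunction U.ι).unit.naturality (RefPow.sPow s n)]
  rw [Category.assoc, Functor.comp_map, ← Functor.map_comp, IsIso.hom_inv_id, CategoryTheory.Functor.map_id]
  exact Category.comp_id _

theorem mulBy_leg (hF : RefHull.IsRef1 F) (hU : (U : Set X) = RefPow.isoLocus s) (n : ℕ) :
    RefPow.mulBy s n ≫ leg s hF hU (n + 1) = leg s hF hU n := by
  haveI := isIso_restrict_sPow s U hF hU n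
  haveI := isIso_restrict_sPow s U hF hU (n + 1)
  rw [leg, leg, ← Category.assoc]
  erw [(Scheme.Modules.restrictAdjunction U.ι).unit.naturality (RefPow.mulBy s n)]
  rw [Category.assoc, Functor.comp_map, ← Functor.map_comp]
  congr 2
  rw [IsIso.comp_inv_eq, IsIso.eq_inv_comp, ← Functor.map_comp, RefPow.sPow_succ]

omit [IsIntegral X] [IsLocallyNoetherian X] in
/-- Sections of `j_* O_U` have the germs of functions at the points of `U`. -/
theorem germ_jO {V : X.Opens} (g : Γ(jO U, V)) :
    ∃ a : Γ(X, V ⊓ U), ∀ (y : X) (hy : y ∈ V ⊓ U),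
      (jO U).presheaf.germ V y hy.1 g = stalkLin (uO U) y (X.presheaf.germ (V ⊓ U) y hy a • ParaFLib.oneG y) := by
  let j := U.ι
  have heq : j ''ᵁ (j ⁻¹ᵁ V) = V ⊓ U := by
    rw [j.image_preimage_eq_opensRange_inf, Scheme.Opens.opensRange_ι, inf_comm]
  let g' : Γ(Coh.structureModule X, j ''ᵁ (j ⁻¹ᵁ V)) := g
  refine ⟨X.presheaf.map (eqToHom heq.symm).op g', fun y hy => ?_⟩
  have hy' : y ∈ j ''ᵁ (j ⁻¹ᵁ V) := heq.symm ▸ hy
  have hgerm : X.presheaf.germ (V ⊓ U) y hy (X.presheaf.map (eqToHom heq.symm).op g') • ParaFLib.oneG y =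
      (Coh.structureModule X).presheaf.germ (j ''ᵁ (j ⁻¹ᵁ V)) y hy' g' := by
    rw [TopCat.Presheaf.germ_res_apply X.presheaf (eqToHom heq.symm) y hy g', ← germ_one y hy', ← Mero.germ_smul]
    exact congrArg _ (mul_one (show Γ(X, j ''ᵁ (j ⁻¹ᵁ V)) from g'))
  rw [hgerm]
  refine Eq.symm ((stalkLin_germ (uO U) y hy' g').trans ?_)
  refine Eq.trans ?_ (TopCat.Presheaf.germ_res_apply (jO U).presheaf (homOfLE (j.image_preimage_le V)) y hy' g)
  exact congrArg _ rfl

omit [IsLocallyNoetherian X] in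
theorem bijective_uO {y : X} (hy : y ∈ U) : Function.Bijective (stalkLin (uO U) y) :=
  S1575.unit_stalk_bijective U.ι _ (by rw [Scheme.Opens.opensRange_ι]; exact hy)

omit [IsLocallyNoetherian X] in
theorem eq_zero_of_empty (hne : genericPoint X ∉ U) (x : X) (z : (jO U).presheaf.stalk x) : z = 0 := by
  obtain ⟨V, hxV, g, rfl⟩ := TopCat.Presheaf.exists_germ_eq (jO U).presheaf z
  haveI : IsEmpty (U : Scheme.{u}) := ⟨fun w => hne (generic_mem_of_mem w.2)⟩
  have he : (U.ι ⁻¹ᵁ V) = ⊥ := le_antisymm (fun w _ => (IsEmpty.false w).elim) bot_le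
  have hg : g = 0 := by
    let g' : Γ(Coh.structureModule X, U.ι ''ᵁ (U.ι ⁻¹ᵁ V)) := g
    have hg0 : g' = 0 :=
      TopCat.Presheaf.section_ext (⟨(Coh.structureModule X).presheaf, (Coh.structureModule X).isSheaf⟩ : TopCat.Sheaf Ab X) _ _ _
        fun w hw => by obtain ⟨v, -, -⟩ := hw; exact (IsEmpty.false v).elim
    exact hg0
  rw [hg, map_zero]

theorem toGen_jO_injective (x : X) : Function.Injective (toGen (jO U) x) := by
  by_cases hη : genericPoint X ∈ U
  swap
  · exact fun a b _ => (eq_zero_of_empty hη x a).trans (eq_zero_of_empty hη x b).symm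
  refine (injective_iff_map_eq_zero
    ((jO U).presheaf.stalkSpecializes ((genericPoint_spec ↥X).specializes (Set.mem_univ x))).hom).2 fun z hz => ?_
  change toGen (jO U) x z = 0 at hz
  obtain ⟨V, hxV, g, rfl⟩ := TopCat.Presheaf.exists_germ_eq (jO U).presheaf z
  obtain ⟨a, ha⟩ := germ_jO g
  have hηV : genericPoint X ∈ V ⊓ U := ⟨generic_mem_of_mem hxV, hη⟩
  rw [toGen_germ, ha _ hηV] at hz
  have h1 := (bijective_uO hη).1 (hz.trans (map_zero _).symm)
  have h2 : X.presheaf.germ (V ⊓ U) (genericPoint X) hηV a = 0 := (ParaFLib.bijective_oneG _).1 (h1.trans (zero_smul _ _).symm)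
  haveI : Nonempty (V ⊓ U : X.Opens) := ⟨⟨_, hηV⟩⟩
  have h3 : a = 0 := germ_injective_of_isIntegral X (U := V ⊓ U) (genericPoint X) hηV (h2.trans (map_zero _).symm)
  have h4 : g = 0 := by
    have heq : U.ι ''ᵁ (U.ι ⁻¹ᵁ V) = V ⊓ U := by
      rw [U.ι.image_preimage_eq_opensRange_inf, Scheme.Opens.opensRange_ι, inf_comm]
    let g' : Γ(Coh.structureModule X, U.ι ''ᵁ (U.ι ⁻¹ᵁ V)) := g
    have hg0 : g' = 0 := by
      refine TopCat.Presheaf.section_ext (⟨(Coh.structureModule X).presheaf, (Coh.structureModule X).isSheaf⟩ : TopCat.Sheaf Ab X) _ _ _ fun w hw => ?_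
      have hw' : w ∈ V ⊓ U := heq ▸ hw
      refine (bijective_uO hw'.2).1 ?_
      refine ((stalkLin_germ (uO U) w hw g').trans ?_).trans ((congrArg (stalkLin (uO U) w) (map_zero _)).trans (map_zero _)).symm
      refine (TopCat.Presheaf.germ_res_apply (jO U).presheaf (homOfLE (U.ι.image_preimage_le V)) w hw g).trans ?_
      rw [ha w hw', h3, map_zero, zero_smul, map_zero]
    exact hg0
  rw [h4, map_zero]

theorem toGen_leg (hF : RefHull.IsRef1 F) (hU : (U : Set X) = RefPow.isoLocus s) (n : ℕ)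
    (r : X.presheaf.stalk (genericPoint X)) :
    stalkLin (leg s hF hU n) (genericPoint X) (r • RefPow.sPowGerm s n (genericPoint X)) =
      r • stalkLin (uO U) (genericPoint X) (ParaFLib.oneG _) := by
  rw [map_smul, sPowGerm_eq, ← LinearMap.comp_apply, ← stalkLin_comp, sPow_leg]

/-- Each comparison map is injective on stalks. -/
theorem leg_injective (hF : RefHull.IsRef1 F) (hU : (U : Set X) = RefPow.isoLocus s) (hη : genericPoint X ∈ U)
    (n : ℕ) (x : X) : Function.Injective (stalkLin (leg s hF hU n) x) := by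
  refine (injective_iff_map_eq_zero _).2 fun m hm => ?_
  have hn := isRef1_refPow hF n
  haveI := hn.1.1
  refine toGen_injective ((isReflexive_iff hn.1).1 hn.2.1 x) ?_
  obtain ⟨r, hr⟩ := (bijective_sPowGerm s hF (hU ▸ hη : genericPoint X ∈ RefPow.isoLocus s) n).2 (toGen _ x m)
  have h1 := congrArg (toGen (jO U) x) hm
  rw [← stalkLin_toGen, ← hr] at h1
  dsimp only at h1
  rw [toGen_leg, show toGen (jO U) x (0 : (jO U).presheaf.stalk x) = 0 from map_zero _, ← map_smul] at h1
  have h2 : r = 0 := (ParaFLib.bijective_oneG _).1 (((bijective_uO hη).1 (h1.trans (map_zero _).symm)).trans (zero_smul _ _).symm)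
  rw [show toGen (RefPow.refPow F n) x (0 : (RefPow.refPow F n).presheaf.stalk x) = 0 from map_zero _, ← hr, h2]
  exact zero_smul _ _

/-- The comparison maps are jointly surjective on stalks. -/
theorem leg_surjective (hX : Pi1.IsNormalScheme X) (hF : RefHull.IsRef1 F) (hU : (U : Set X) = RefPow.isoLocus s)
    (x : X) (z : (jO U).presheaf.stalk x) :
    ∃ n₀ : ℕ, ∀ n, n₀ ≤ n → ∃ w, stalkLin (leg s hF hU n) x w = z := by
  classical
  by_cases hη : genericPoint X ∈ U
  swap
  · exact ⟨0, fun n _ => ⟨0, (eq_zero_of_empty hη x _).trans (eq_zero_of_empty hη x z).symm⟩⟩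
  obtain ⟨V₀, hxV₀, g₀, rfl⟩ := TopCat.Presheaf.exists_germ_eq (jO U).presheaf z
  obtain ⟨V, hV, hxV, hVV₀⟩ := exists_isAffineOpen_mem_and_subset (x := x) (U := V₀) hxV₀
  rw [← TopCat.Presheaf.germ_res_apply (jO U).presheaf (homOfLE (show V ≤ V₀ from hVV₀)) x hxV g₀]
  generalize (jO U).presheaf.map (homOfLE (show V ≤ V₀ from hVV₀)).op g₀ = g
  obtain ⟨a, ha⟩ := germ_jO g
  have hηVU : genericPoint X ∈ V ⊓ U := ⟨generic_mem_of_mem hxV, hη⟩
  let φ := X.presheaf.germ (V ⊓ U) (genericPoint X) hηVU a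
  have hz : toGen (jO U) x ((jO U).presheaf.germ V x hxV g) = φ • stalkLin (uO U) (genericPoint X) (ParaFLib.oneG _) := by
    rw [toGen_germ, ha _ hηVU, map_smul]
  have hS := finite_codim_one_compl U hη hV
  have hint : ∀ y : X, Order.coheight y = 1 → y ∉ U → ∃ N : ℕ, ∀ n, N ≤ n →
      φ • RefPow.sPowGerm s n (genericPoint X) ∈ Set.range (toGen (RefPow.refPow F n) y) := fun y hy hyU => by
    haveI := isDVR hX hy
    obtain ⟨t, ht, ht0⟩ := exists_gen_codim_one hX hF hy
    have hb := bijective_of_span ht ht0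
    obtain ⟨c, hc⟩ := hb.2 (stalkLin s y (ParaFLib.oneG y))
    have hcm : c ∈ IsLocalRing.maximalIdeal (X.presheaf.stalk y) := (IsLocalRing.mem_maximalIdeal c).2 fun hu => hyU (by
      show y ∈ (U : Set X)
      rw [hU]
      show Function.Bijective (stalkLin s y)
      refine ((ParaFLib.bijective_oneG y).of_comp_iff (stalkLin s y)).1 ?_
      rw [show stalkLin s y ∘ (fun r : X.presheaf.stalk y => r • ParaFLib.oneG y) = (fun r : X.presheaf.stalk y => r • t) ∘ (fun r => r * c) from
        funext fun r => by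
          simp only [Function.comp_apply]
          rw [map_smul, ← hc, mul_smul]]
      exact hb.comp hu.unit.mulRight_bijective)
    obtain ⟨A, B, hB, hAB⟩ := exists_div y (show X.functionField from φ)
    obtain ⟨p, hp⟩ := IsDiscreteValuationRing.exists_irreducible (X.presheaf.stalk y)
    obtain ⟨m, u, hu⟩ := IsDiscreteValuationRing.eq_unit_mul_pow_irreducible hB hp
    refine ⟨m, fun n hn => ?_⟩
    obtain ⟨tn, htn, hsn⟩ := exists_sPowGerm_gen s hF hb hc.symm n
    have hdvd : B ∣ c ^ n := by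
      rw [hu]
      refine dvd_trans ?_ (pow_dvd_pow_of_dvd (Ideal.mem_span_singleton.1 (hp.maximalIdeal_eq ▸ hcm)) n)
      exact (Units.mul_left_dvd).2 (pow_dvd_pow p hn)
    obtain ⟨q, hq⟩ := hdvd
    refine ⟨(A * q) • tn, ?_⟩
    rw [← toGen_sPowGerm s n y, hsn, toGen_smul, toGen_smul, ← mul_smul]
    refine congrArg (· • toGen _ y tn) ?_
    have hAB' : toK y B * φ = toK y A := hAB
    rw [hq, map_mul, map_mul, ← hAB']
    ring
  choose N hN using hint
  let S := hS.toFinset
  have hSmem : ∀ y : S, Order.coheight y.1 = 1 ∧ y.1 ∈ V ∧ y.1 ∉ U := fun y => (Set.Finite.mem_toFinset hS).1 y.2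
  refine ⟨Finset.univ.sup (fun y : S => N y.1 (hSmem y).1 (hSmem y).2.2), fun n hn => ?_⟩
  have hRn := isRef1_refPow hF n
  obtain ⟨w, hw⟩ := mem_range_of_codim_one hX hRn.1 ((isReflexive_iff hRn.1).1 hRn.2.1 x)
    (φ • RefPow.sPowGerm s n (genericPoint X)) fun y hyx hy => by
      have hyV : y ∈ V := hyx.mem_open V.2 hxV
      by_cases hyU : y ∈ U
      · refine ⟨X.presheaf.germ (V ⊓ U) y ⟨hyV, hyU⟩ a • RefPow.sPowGerm s n y, ?_⟩
        rw [toGen_smul, toGen_sPowGerm, toK_germ]
      · exact hN y hy hyU n (le_trans (Finset.le_sup (f := fun y : S => N y.1 (hSmem y).1 (hSmem y).2.2)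
          (Finset.mem_univ (⟨y, (Set.Finite.mem_toFinset hS).2 ⟨hy, hyV, hyU⟩⟩ : S))) hn)
  refine ⟨w, toGen_jO_injective x ?_⟩
  rw [← stalkLin_toGen, hw, toGen_leg, hz]

end Cocone

end Groth.Agent.RefOne
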