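import Groth.Agent.RefOne.Power

/-!
# Rank one reflexive modules with principal divisor at a point
-/

set_option autoImplicit false
set_option backward.isDefEq.respectTransparency false
set_option linter.style.haveILetI false
universe u
open CategoryTheory CategoryTheory.Limits AlgebraicGeometry TopologicalSpace Module
open Groth.Agent.PullbackMod Groth.Agent.DCohLib

noncomputable section

namespace Groth.Agent.RefOne

variable {X : Scheme.{u}} [IsIntegral X]

theorem toGen_spec (F : X.Modules) {y x : X} (h : y ⤳ x) (m : F.presheaf.stalk x) :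
    toGen F y (F.presheaf.stalkSpecializes h m) = toGen F x m := by
  obtain ⟨U, hx, s, rfl⟩ := TopCat.Presheaf.exists_germ_eq F.presheaf m
  erw [TopCat.Presheaf.germ_stalkSpecializes_apply F.presheaf hx h s]
  rw [toGen_germ, toGen_germ]

theorem range_toGen_subset (F : X.Modules) {y x : X} (h : y ⤳ x) : Set.range (toGen F x) ⊆ Set.range (toGen F y) := by
  rintro _ ⟨m, rfl⟩
  exact ⟨_, toGen_spec F h m⟩

variable [IsLocallyNoetherian X]

theorem toK_ne_zero {x : X} {a : X.presheaf.stalk x} (ha : a ≠ 0) : toK x a ≠ 0 := fun h =>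
  ha (toK_injective x (h.trans (map_zero _).symm))

theorem exists_toK_of_codim_one (hX : Pi1.IsNormalScheme X) {x : X} (ψ : X.presheaf.stalk (genericPoint X))
    (h : ∀ y : X, y ⤳ x → Order.coheight y = 1 → ψ ∈ Set.range (toK y)) : ψ ∈ Set.range (toK x) := by
  have hO := isRef1_structureModule (X := X)
  obtain ⟨m, hm⟩ := mem_range_of_codim_one hX hO.1 ((isReflexive_iff hO.1).1 hO.2.1 x) (oEquiv (genericPoint X) ψ)
    fun y hy hy1 => by
      obtain ⟨a, rfl⟩ := h y hy hy1
      exact ⟨oEquiv y a, toGen_oEquiv y a⟩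
  obtain ⟨a, rfl⟩ := (oEquiv x).surjective m
  rw [toGen_oEquiv] at hm
  exact ⟨a, (oEquiv (genericPoint X)).injective hm⟩

/-- A rational section of order zero at all codimension one generisations of `x` generates at `x`. -/
theorem exists_gen_of_ord_zero (hX : Pi1.IsNormalScheme X) {F : X.Modules} (hF : RefHull.IsRef1 F) {x : X}
    {v : F.presheaf.stalk (genericPoint X)} (hv : v ≠ 0)
    (h : ∀ y : X, y ⤳ x → Order.coheight y = 1 →
      Cyc.secOrdAt F (genericPoint X) y (spec_gen y) (Submodule.Quotient.mk v) = 0) :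
    ∃ t : F.presheaf.stalk x, (Function.Bijective fun r : X.presheaf.stalk x => r • t) ∧ toGen F x t = v := by
  haveI := hF.1.1
  obtain ⟨e, he⟩ := exists_gen_generic hF.2.2
  have hvb := exists_smul_eq he hv
  have key : ∀ y : X, y ⤳ x → Order.coheight y = 1 →
      ∃ t : F.presheaf.stalk y, Submodule.span (X.presheaf.stalk y) {t} = ⊤ ∧ toGen F y t = v := fun y hy hy1 => by
    obtain ⟨t, ht, ht0⟩ := exists_gen_codim_one hX hF hy1
    obtain ⟨c, hc⟩ := (exists_smul_eq he ht0).2 v
    have hc0 : c ≠ 0 := fun h0 => hv (by rw [← hc, h0]; exact zero_smul _ _)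
    have hord := h y hy hy1
    rw [secOrdAt_eq hy1 v ht ht0 hc.symm] at hord
    obtain ⟨a, ha⟩ := exists_eq_toK hX hy1 (f := (show X.functionField from c)) (Or.inr hord.ge)
    have ha0 : a ≠ 0 := fun h0 => hc0 (by rw [h0, map_zero] at ha; exact ha.symm)
    have hau : IsUnit a := by
      obtain ⟨a', ha'⟩ := exists_eq_toK hX hy1 (f := (show X.functionField from c)⁻¹)
        (Or.inr (by rw [scheme_ord_inv hc0, hord, neg_zero]))
      refine IsUnit.of_mul_eq_one a' (toK_injective y ?_)
      rw [map_mul, map_one, ha, ha']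
      exact mul_inv_cancel₀ (show (show X.functionField from c) ≠ 0 from hc0)
    refine ⟨a • t, (Submodule.span_singleton_smul_eq hau t).trans ht, ?_⟩
    rw [toGen_smul, ha]
    exact hc
  obtain ⟨t, ht⟩ := mem_range_of_codim_one hX hF.1 ((isReflexive_iff hF.1).1 hF.2.1 x) v fun y hy hy1 => by
    obtain ⟨t, -, ht⟩ := key y hy hy1
    exact ⟨t, ht⟩
  refine ⟨t, ⟨fun a b hab => ?_, fun m => ?_⟩, ht⟩
  · have h1 := congrArg (toGen F x) hab
    simp only [toGen_smul, ht] at h1
    exact toK_injective x (hvb.1 h1)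
  · obtain ⟨ψ, hψ⟩ := hvb.2 (toGen F x m)
    obtain ⟨r, hr⟩ := exists_toK_of_codim_one hX ψ fun y hy hy1 => by
      obtain ⟨ty, hty, htv⟩ := key y hy hy1
      obtain ⟨r, hr⟩ := Submodule.mem_span_singleton.1 (hty.ge (Submodule.mem_top (x := F.presheaf.stalkSpecializes hy m)))
      have h1 := congrArg (toGen F y) hr
      rw [toGen_smul, htv, toGen_spec, ← hψ] at h1
      exact ⟨r, hvb.1 h1⟩
    refine ⟨r, toGen_injective ((isReflexive_iff hF.1).1 hF.2.1 x) ?_⟩
    show toGen F x (r • t) = toGen F x m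
    rw [toGen_smul, ht, hr]
    exact hψ

/-- Where the stalk is free the divisor of a rational section is principal. -/
theorem exists_ord_eq_of_free {F : X.Modules} [Coh.IsQCoh F] {x : X} {t : F.presheaf.stalk x}
    (ht : Function.Bijective fun r : X.presheaf.stalk x => r • t)
    {e : F.presheaf.stalk (genericPoint X)} (he : Function.Bijective fun r : X.presheaf.stalk (genericPoint X) => r • e)
    {σ : F.presheaf.stalk (genericPoint X)} (hσ : σ ≠ 0)
    (hgen : ∀ y : X, (h : y ⤳ x) → Submodule.span (X.presheaf.stalk y) {F.presheaf.stalkSpecializes h t} = ⊤) :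
    ∃ f : X.functionField, f ≠ 0 ∧ ∀ y : X, y ⤳ x → Order.coheight y = 1 →
      Cyc.secOrdAt F (genericPoint X) y (spec_gen y) (Submodule.Quotient.mk σ) = Scheme.ord f y := by
  have ht0 : toGen F x t ≠ 0 := toGen_ne_zero ht
  obtain ⟨c, hc⟩ := (exists_smul_eq he ht0).2 σ
  refine ⟨c, fun h0 => hσ (by rw [← hc, show c = 0 from h0]; exact zero_smul _ _), fun y hy hy1 => ?_⟩
  exact secOrdAt_eq hy1 σ (hgen y hy) (by rwa [toGen_spec]) (by rw [toGen_spec]; exact hc.symm)

/-- Free stalks give an invertible module. -/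
theorem isInvertible_of_free {F : X.Modules} (hF : Coh.IsCoh F)
    (h : ∀ x : X, ∃ t : F.presheaf.stalk x, Function.Bijective fun r : X.presheaf.stalk x => r • t) :
    PicF.IsInvertible F := fun x => by
  haveI := hF.1
  obtain ⟨t, ht⟩ := h x
  let E : F.presheaf.stalk x ≃ₗ[X.presheaf.stalk x] (Fin 1 → X.presheaf.stalk x) :=
    (LinearEquiv.ofBijective (LinearMap.toSpanSingleton (X.presheaf.stalk x) (F.presheaf.stalk x) t) ht).symm.trans
      (LinearEquiv.funUnique (Fin 1) (X.presheaf.stalk x) (X.presheaf.stalk x)).symm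
  obtain ⟨U, hU, ⟨i⟩⟩ := exists_nhd_freeAt F (QCohLib.isFP_of_isCoh F hF) (x := x) (n := 1) ⟨E⟩
  exact ⟨U, hU, ⟨i ≪≫ BCLib.freeModOneIso (U : Scheme.{u})⟩⟩

/-- Principal at `x` gives a generator at `x`. -/
theorem exists_gen_of_principal (hX : Pi1.IsNormalScheme X) {F : X.Modules} (hF : RefHull.IsRef1 F) {x : X}
    {σ : F.presheaf.stalk (genericPoint X)} (hσ : σ ≠ 0) {f : X.functionField} (hf : f ≠ 0)
    (h : ∀ y : X, y ⤳ x → Order.coheight y = 1 →
      Cyc.secOrdAt F (genericPoint X) y (spec_gen y) (Submodule.Quotient.mk σ) = Scheme.ord f y) :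
    ∃ t : F.presheaf.stalk x, Function.Bijective fun r : X.presheaf.stalk x => r • t := by
  haveI := hF.1.1
  obtain ⟨e, he⟩ := exists_gen_generic hF.2.2
  let g : X.presheaf.stalk (genericPoint X) := f⁻¹
  have hg : g ≠ 0 := inv_ne_zero hf
  have hv : g • σ ≠ 0 := fun h0 => hg ((exists_smul_eq he hσ).1 (h0.trans (zero_smul _ σ).symm))
  obtain ⟨t, ht, -⟩ := exists_gen_of_ord_zero hX hF (x := x) hv fun y hy hy1 => by
    obtain ⟨ty, hty, hty0⟩ := exists_gen_codim_one hX hF hy1
    obtain ⟨c, hc⟩ := (exists_smul_eq he hty0).2 σ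
    rw [secOrdAt_smul hy1 hty hty0 σ ⟨c, hc.symm⟩ hσ hg, h y hy hy1]
    show Scheme.ord f⁻¹ y + _ = 0
    rw [scheme_ord_inv hf]
    exact neg_add_cancel _
  exact ⟨t, ht⟩

theorem span_spec_of_invertible {F : X.Modules} [Coh.IsQCoh F] {W : X.Opens} {s : Γ(F, W)} (hs : ParaFLib.Gen W s)
    {y x : X} (h : y ⤳ x) (hx : x ∈ W) :
    Submodule.span (X.presheaf.stalk y) {F.presheaf.stalkSpecializes h (F.presheaf.germ W x hx s)} = ⊤ := by
  erw [TopCat.Presheaf.germ_stalkSpecializes_apply F.presheaf hx h s]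
  exact span_of_bijective (hs.bijective_germ y (h.mem_open W.2 hx))

/-- An invertible module has principal divisor near every point. -/
theorem exists_ord_eq_of_invertible {F : X.Modules} [Coh.IsQCoh F] (hF : PicF.IsInvertible F) (x : X)
    {σ : F.presheaf.stalk (genericPoint X)} (hσ : σ ≠ 0) :
    ∃ f : X.functionField, f ≠ 0 ∧ ∀ y : X, y ⤳ x → Order.coheight y = 1 →
      Cyc.secOrdAt F (genericPoint X) y (spec_gen y) (Submodule.Quotient.mk σ) = Scheme.ord f y := by
  obtain ⟨W, s, hx, hs⟩ := ParaFLib.exists_gen_nhd hF x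
  exact exists_ord_eq_of_free (hs.bijective_germ x hx)
    (hs.bijective_germ (genericPoint X) (generic_mem_of_mem hx)) hσ fun y h => span_spec_of_invertible hs h hx

end Groth.Agent.RefOne
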