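import Groth.Agent.RefOne.Ord
import Groth.Agent.AmpleLib.Tensor
import Groth.Agent.CurveLib.TensorDeg
import Groth.Agent.PullbackMod.LimFree
import Groth.Agent.QCohLib.FiniteType
import Groth.Agent.BCLib.SteinFlat

/-!
# Operations on rank one reflexive modules and their effect on orders
-/

set_option autoImplicit false
set_option backward.isDefEq.respectTransparency false
set_option linter.style.haveILetI false
universe u
open CategoryTheory CategoryTheory.Limits AlgebraicGeometry TopologicalSpace Module
open Groth.Agent.PullbackMod Groth.Agent.DCohLib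
open scoped TensorProduct

noncomputable section

namespace Groth.Agent.RefOne

variable {X : Scheme.{u}} [IsIntegral X] [IsLocallyNoetherian X]

omit [IsLocallyNoetherian X] in
theorem bijective_of_span {F : X.Modules} {y : X} {t : F.presheaf.stalk y}
    (ht : Submodule.span (X.presheaf.stalk y) {t} = ⊤) (ht0 : toGen F y t ≠ 0) :
    Function.Bijective fun r : X.presheaf.stalk y => r • t := by
  refine ⟨fun a b hab => ?_, fun m => Submodule.mem_span_singleton.1 (ht.ge (Submodule.mem_top (x := m)))⟩
  by_contra hne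
  have h1 : toK y (a - b) • toGen F y t = 0 := by
    rw [← toGen_smul, show (a - b) • t = 0 by rw [sub_smul]; exact sub_eq_zero.2 hab]
    exact map_zero _
  obtain ⟨c, hc⟩ := (isField_gen (X := X)).mul_inv_cancel (fun h0 => sub_ne_zero.2 hne (toK_injective y (h0.trans (map_zero _).symm)))
  refine ht0 ?_
  rw [← one_smul (X.presheaf.stalk (genericPoint X)) (toGen F y t), ← hc, mul_comm, mul_smul, h1, smul_zero]

omit [IsLocallyNoetherian X] in
theorem span_of_bijective {F : X.Modules} {y : X} {t : F.presheaf.stalk y}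
    (h : Function.Bijective fun r : X.presheaf.stalk y => r • t) :
    Submodule.span (X.presheaf.stalk y) {t} = ⊤ :=
  eq_top_iff.2 fun m _ => Submodule.mem_span_singleton.2 (h.2 m)

omit [IsLocallyNoetherian X] in
theorem toGen_ne_zero {F : X.Modules} [Coh.IsQCoh F] {y : X} {t : F.presheaf.stalk y}
    (h : Function.Bijective fun r : X.presheaf.stalk y => r • t) : toGen F y t ≠ 0 := fun h0 => by
  obtain ⟨a, ha, hat⟩ := toGen_eq_zero h0
  exact ha (h.1 (hat.trans (zero_smul _ t).symm))

theorem genInvertible_of_gen {F : X.Modules} (hF : Coh.IsCoh F) {e : F.presheaf.stalk (genericPoint X)}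
    (he : Function.Bijective fun r : X.presheaf.stalk (genericPoint X) => r • e) : RefHull.GenInvertible F := by
  haveI := hF.1
  let E : F.presheaf.stalk (genericPoint X) ≃ₗ[X.presheaf.stalk (genericPoint X)] (Fin 1 → X.presheaf.stalk (genericPoint X)) :=
    (LinearEquiv.ofBijective (LinearMap.toSpanSingleton (X.presheaf.stalk (genericPoint X)) (F.presheaf.stalk (genericPoint X)) e) he).symm.trans
      (LinearEquiv.funUnique (Fin 1) (X.presheaf.stalk (genericPoint X)) (X.presheaf.stalk (genericPoint X))).symm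
  obtain ⟨U, hU, ⟨i⟩⟩ := exists_nhd_freeAt F (QCohLib.isFP_of_isCoh F hF) (x := genericPoint X) (n := 1) ⟨E⟩
  refine ⟨U, fun x => ?_, fun z => ⟨⊤, trivial, ?_⟩⟩
  · exact closure_mono (Set.singleton_subset_iff.2 hU) (specializes_iff_mem_closure.1 (spec_gen x))
  · exact ⟨(Scheme.Modules.restrictFunctor (⊤ : (U : Scheme.{u}).Opens).ι).mapIso (i ≪≫ BCLib.freeModOneIso (U : Scheme.{u})) ≪≫
      DCohLib.restrictUnit _⟩

/-- A morphism bijective on the stalk at `y` preserves orders there. -/
theorem secOrdAt_map {F G : X.Modules} (φ : F ⟶ G) {y : X} (hy : Order.coheight y = 1)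
    (hb : Function.Bijective (stalkLin φ y)) {t : F.presheaf.stalk y}
    (ht : Submodule.span (X.presheaf.stalk y) {t} = ⊤) (ht0 : toGen F y t ≠ 0)
    (hη : Function.Injective (stalkLin φ (genericPoint X)))
    (σ : F.presheaf.stalk (genericPoint X)) (hσ : ∃ c : X.presheaf.stalk (genericPoint X), σ = c • toGen F y t) :
    Cyc.secOrdAt G (genericPoint X) y (spec_gen y) (Submodule.Quotient.mk (stalkLin φ (genericPoint X) σ)) =
      Cyc.secOrdAt F (genericPoint X) y (spec_gen y) (Submodule.Quotient.mk σ) := by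
  obtain ⟨c, hc⟩ := hσ
  have h1 : Submodule.span (X.presheaf.stalk y) {stalkLin φ y t} = ⊤ := by
    rw [← Set.image_singleton, ← Submodule.map_span, ht, Submodule.map_top, LinearMap.range_eq_top]
    exact hb.2
  rw [secOrdAt_eq hy σ ht ht0 hc, secOrdAt_eq hy _ h1 (by
    rw [← stalkLin_toGen]; exact fun h => ht0 (hη (h.trans (map_zero _).symm))) (φ := c) (by
    rw [← stalkLin_toGen, hc, map_smul])]

/-! ## Duals -/

omit [IsLocallyNoetherian X] in
theorem toGen_oneG (y : X) : toGen (Coh.structureModule X) y (ParaFLib.oneG y) = ParaFLib.oneG (genericPoint X) :=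
  toGen_germ _ y _ _

theorem toGen_oEquiv (y : X) (r : X.presheaf.stalk y) :
    toGen (Coh.structureModule X) y (oEquiv y r) = oEquiv (genericPoint X) (toK y r) := by
  show toGen (Coh.structureModule X) y (r • ParaFLib.oneG y) = toK y r • ParaFLib.oneG (genericPoint X)
  rw [toGen_smul, toGen_oneG]

omit [IsLocallyNoetherian X] in
theorem evalStalk_toGen {F G : X.Modules} (y : X) (θ : (RefHull.homSh F G).presheaf.stalk y) (m : F.presheaf.stalk y) :
    RefHull.evalStalk F G (genericPoint X) (toGen (RefHull.homSh F G) y θ) (toGen F y m) =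
      toGen G y (RefHull.evalStalk F G y θ m) := by
  obtain ⟨U, hU, f, rfl⟩ := TopCat.Presheaf.exists_germ_eq (RefHull.homSh F G).presheaf θ
  obtain ⟨V, hV, s, rfl⟩ := TopCat.Presheaf.exists_germ_eq F.presheaf m
  obtain ⟨W, hW, j, n, hn⟩ := RefHull.isLocSect_of_mem f (U ⊓ V) (homOfLE inf_le_left)
    (F.presheaf.map (homOfLE inf_le_right).op s) ⟨y, hU, hV⟩
  have hη : genericPoint X ∈ W := (spec_gen y).mem_open W.2 hW
  have h1 := hn ⟨y, hW⟩
  have h2 := hn ⟨genericPoint X, hη⟩
  rw [TopCat.Presheaf.germ_res_apply] at h1 h2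
  rw [toGen_germ, toGen_germ, RefHull.evalStalk_germ, RefHull.evalStalk_germ, h1, h2, toGen_germ]

theorem dualStalk_toGen {F : X.Modules} (hF : Coh.IsCoh F) (y : X) (θ : (RefHull.dual F).presheaf.stalk y)
    (m : F.presheaf.stalk y) :
    dualStalk hF (genericPoint X) (toGen (RefHull.dual F) y θ) (toGen F y m) = toK y (dualStalk hF y θ m) := by
  apply (oEquiv (genericPoint X)).injective
  rw [← toGen_oEquiv, dualStalk_apply, dualStalk_apply, LinearEquiv.apply_symm_apply, LinearEquiv.apply_symm_apply]
  exact evalStalk_toGen y θ m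

theorem isRef1_dual {F : X.Modules} (hF : Coh.IsCoh F) {e : F.presheaf.stalk (genericPoint X)}
    (he : Function.Bijective fun r : X.presheaf.stalk (genericPoint X) => r • e) :
    RefHull.IsRef1 (RefHull.dual F) := by
  refine ⟨isCoh_dual hF, (isReflexive_iff (isCoh_dual hF)).2 fun x => ?_, ?_⟩
  · haveI := hF.1
    haveI := PullbackMod.finite_stalk_of_isFT hF.2 x
    haveI := CAlgBasics.isReflexive_linearMap (R := X.presheaf.stalk x) (F.presheaf.stalk x) (X.presheaf.stalk x)
    exact Module.equiv (dualStalk hF x).symm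
  · let E := LinearEquiv.ofBijective (LinearMap.toSpanSingleton (X.presheaf.stalk (genericPoint X)) (F.presheaf.stalk (genericPoint X)) e) he
    refine genInvertible_of_gen (isCoh_dual hF) (e := (dualStalk hF (genericPoint X)).symm E.symm.toLinearMap) ?_
    refine ⟨fun a b hab => ?_, fun θ => ⟨dualStalk hF (genericPoint X) θ e, ?_⟩⟩
    · have h1 := congrArg (fun w => dualStalk hF (genericPoint X) w e) hab
      simp only [map_smul, LinearEquiv.apply_symm_apply, LinearMap.smul_apply] at h1
      rwa [show E.symm.toLinearMap e = 1 from E.injective (by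
        show E (E.symm e) = E 1
        rw [LinearEquiv.apply_symm_apply]; exact (one_smul (X.presheaf.stalk (genericPoint X)) e).symm), smul_eq_mul, smul_eq_mul, mul_one, mul_one] at h1
    · refine (dualStalk hF (genericPoint X)).injective (LinearMap.ext fun v => ?_)
      obtain ⟨r, rfl⟩ := he.2 v
      dsimp only
      rw [map_smul, map_smul, LinearEquiv.apply_symm_apply, LinearMap.smul_apply, map_smul,
        show E.symm.toLinearMap e = 1 from E.injective (by
          show E (E.symm e) = E 1
          rw [LinearEquiv.apply_symm_apply]; exact (one_smul (X.presheaf.stalk (genericPoint X)) e).symm),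
        smul_eq_mul, smul_eq_mul, smul_eq_mul, mul_one]

/-- The order of a rational functional. -/
theorem secOrdAt_dual {F : X.Modules} (hF : Coh.IsCoh F) {y : X} (hy : Order.coheight y = 1)
    {t : F.presheaf.stalk y} (ht : Function.Bijective fun r : X.presheaf.stalk y => r • t)
    (σ : F.presheaf.stalk (genericPoint X)) (hσ : ∃ φ : X.presheaf.stalk (genericPoint X), σ = φ • toGen F y t) (hσ0 : σ ≠ 0)
    (θ : (RefHull.dual F).presheaf.stalk (genericPoint X)) (hc : dualStalk hF (genericPoint X) θ σ ≠ 0) :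
    Cyc.secOrdAt (RefHull.dual F) (genericPoint X) y (spec_gen y) (Submodule.Quotient.mk θ) =
      Scheme.ord (show X.functionField from dualStalk hF (genericPoint X) θ σ) y -
        Cyc.secOrdAt F (genericPoint X) y (spec_gen y) (Submodule.Quotient.mk σ) := by
  haveI := hF.1
  obtain ⟨φ, hφ⟩ := hσ
  let E := LinearEquiv.ofBijective (LinearMap.toSpanSingleton (X.presheaf.stalk y) (F.presheaf.stalk y) t) ht
  let t' := (dualStalk hF y).symm E.symm.toLinearMap
  have ht' : dualStalk hF y t' t = 1 := by
    rw [LinearEquiv.apply_symm_apply]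
    refine E.injective ?_
    show E (E.symm t) = E 1
    rw [LinearEquiv.apply_symm_apply]
    exact (one_smul (X.presheaf.stalk y) t).symm
  have hspan : Submodule.span (X.presheaf.stalk y) {t'} = ⊤ := eq_top_iff.2 fun ω _ =>
    Submodule.mem_span_singleton.2 ⟨dualStalk hF y ω t, (dualStalk hF y).injective (LinearMap.ext fun v => by
      obtain ⟨r, rfl⟩ := ht.2 v
      dsimp only
      rw [map_smul, map_smul, map_smul, LinearMap.smul_apply, ht', smul_eq_mul, smul_eq_mul, smul_eq_mul, mul_one])⟩
  have hpair : dualStalk hF (genericPoint X) (toGen (RefHull.dual F) y t') (toGen F y t) = 1 := by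
    rw [dualStalk_toGen, ht', map_one]
  have ht'0 : toGen (RefHull.dual F) y t' ≠ 0 := fun h0 => by
    rw [h0, map_zero, LinearMap.zero_apply] at hpair
    exact zero_ne_one hpair
  obtain ⟨e, he⟩ : ∃ e : F.presheaf.stalk (genericPoint X), Function.Bijective fun r : X.presheaf.stalk (genericPoint X) => r • e := by
    refine ⟨toGen F y t, fun a b hab => ?_, fun v => ?_⟩
    · have h1 := congrArg (dualStalk hF (genericPoint X) (toGen (RefHull.dual F) y t')) hab
      rwa [map_smul, map_smul, hpair, smul_eq_mul, smul_eq_mul, mul_one, mul_one] at h1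
    · obtain ⟨c, m, hc0, hcm⟩ := exists_smul_mem_range (F := F) y v
      obtain ⟨r, rfl⟩ := ht.2 m
      obtain ⟨d, hd⟩ := (isField_gen (X := X)).mul_inv_cancel (fun h0 => hc0 (toK_injective y (h0.trans (map_zero _).symm)))
      refine ⟨d * toK y r, ?_⟩
      show (d * toK y r) • toGen F y t = v
      rw [mul_smul, ← toGen_smul, ← hcm, ← mul_smul, mul_comm, hd, one_smul]
  have hg := exists_smul_eq he (toGen_ne_zero ht)
  have hφ0 : φ ≠ 0 := fun h0 => hσ0 (by rw [hφ, h0, zero_smul])
  obtain ⟨d, hd⟩ := (isField_gen (X := X)).mul_inv_cancel hφ0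
  have hθ : θ = (dualStalk hF (genericPoint X) θ σ * d) • toGen (RefHull.dual F) y t' := by
    refine (dualStalk hF (genericPoint X)).injective (LinearMap.ext fun v => ?_)
    obtain ⟨r, rfl⟩ := hg.2 v
    rw [hφ, map_smul, map_smul, map_smul, LinearMap.smul_apply, map_smul, hpair]
    simp only [smul_eq_mul, mul_one]
    rw [mul_comm φ _, mul_assoc, hd, mul_one, mul_comm]
  rw [secOrdAt_eq hy σ (span_of_bijective ht) (toGen_ne_zero ht) hφ, secOrdAt_eq hy θ hspan ht'0 hθ]
  have hdK : (show X.functionField from d) = (show X.functionField from φ)⁻¹ :=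
    eq_inv_of_mul_eq_one_left (by rw [mul_comm]; exact hd)
  show Scheme.ord ((show X.functionField from dualStalk hF (genericPoint X) θ σ) * (show X.functionField from d)) y = _
  rw [Scheme.ord_mul (show (show X.functionField from dualStalk hF (genericPoint X) θ σ) ≠ 0 from hc) (by
      rw [hdK]; exact inv_ne_zero hφ0), hdK, scheme_ord_inv (show (show X.functionField from φ) ≠ 0 from hφ0)]
  rfl

/-- A free stalk is not changed by the reflexive hull. -/
theorem bijective_bidual_of_bijective {F : X.Modules} (hF : Coh.IsCoh F) {y : X} {t : F.presheaf.stalk y}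
    (ht : Function.Bijective fun r : X.presheaf.stalk y => r • t) :
    Function.Bijective (stalkLin (RefHull.bidualMap F) y) := by
  refine (bijective_bidual_stalk_iff hF y).2 ?_
  exact Module.equiv (LinearEquiv.ofBijective (LinearMap.toSpanSingleton (X.presheaf.stalk y) (F.presheaf.stalk y) t) ht)

/-! ## Tensor products -/

omit [IsLocallyNoetherian X] in
theorem stalkTensor_toGen (F G : X.Modules) (y : X) (a : F.presheaf.stalk y) (b : G.presheaf.stalk y) :
    toGen (tmod F G) y (stalkTensor y F G (a ⊗ₜ b)) =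
      stalkTensor (genericPoint X) F G (toGen F y a ⊗ₜ toGen G y b) := by
  obtain ⟨U, hU, m, rfl⟩ := TopCat.Presheaf.exists_germ_eq F.presheaf a
  obtain ⟨V, hV, n, rfl⟩ := TopCat.Presheaf.exists_germ_eq G.presheaf b
  rw [← TopCat.Presheaf.germ_res_apply F.presheaf (homOfLE (inf_le_left : U ⊓ V ≤ U)) y ⟨hU, hV⟩,
    ← TopCat.Presheaf.germ_res_apply G.presheaf (homOfLE (inf_le_right : U ⊓ V ≤ V)) y ⟨hU, hV⟩,
    ← AmpleLib.germ_pairS, toGen_germ, toGen_germ, toGen_germ, AmpleLib.germ_pairS]

theorem secOrdAt_tensor {F G : X.Modules} (hF : Coh.IsCoh F) (hG : Coh.IsCoh G) {y : X} (hy : Order.coheight y = 1)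
    {t : F.presheaf.stalk y} (ht : Function.Bijective fun r : X.presheaf.stalk y => r • t)
    {t' : G.presheaf.stalk y} (ht' : Function.Bijective fun r : X.presheaf.stalk y => r • t')
    (σ : F.presheaf.stalk (genericPoint X)) (hσ : ∃ φ : X.presheaf.stalk (genericPoint X), σ = φ • toGen F y t) (hσ0 : σ ≠ 0)
    (τ : G.presheaf.stalk (genericPoint X)) (hτ : ∃ φ : X.presheaf.stalk (genericPoint X), τ = φ • toGen G y t') (hτ0 : τ ≠ 0) :
    Cyc.secOrdAt (tmod F G) (genericPoint X) y (spec_gen y)
        (Submodule.Quotient.mk (stalkTensor (genericPoint X) F G (σ ⊗ₜ τ))) =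
      Cyc.secOrdAt F (genericPoint X) y (spec_gen y) (Submodule.Quotient.mk σ) +
        Cyc.secOrdAt G (genericPoint X) y (spec_gen y) (Submodule.Quotient.mk τ) := by
  obtain ⟨φ, hφ⟩ := hσ
  obtain ⟨φ', hφ'⟩ := hτ
  haveI := hF.1
  haveI := hG.1
  haveI := (CurveLib.isCoh_tmod hF hG).1
  have hb := AmpleLib.bijective_stalkTensor ht ht'
  rw [secOrdAt_eq hy σ (span_of_bijective ht) (toGen_ne_zero ht) hφ,
    secOrdAt_eq hy τ (span_of_bijective ht') (toGen_ne_zero ht') hφ',
    secOrdAt_eq hy _ (span_of_bijective hb) (toGen_ne_zero hb) (φ := φ * φ') (by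
      rw [stalkTensor_toGen, hφ, hφ', TensorProduct.smul_tmul_smul, map_smul])]
  exact Scheme.ord_mul (show (show X.functionField from φ) ≠ 0 from fun h => hσ0 (by rw [hφ, show φ = 0 from h, zero_smul]))
    (show (show X.functionField from φ') ≠ 0 from fun h => hτ0 (by rw [hφ', show φ' = 0 from h, zero_smul]))

theorem isRef1_ddual_tensor {F G : X.Modules} (hF : RefHull.IsRef1 F) (hG : RefHull.IsRef1 G) :
    RefHull.IsRef1 (RefHull.ddual (tmod F G)) := by
  obtain ⟨e, he⟩ := exists_gen_generic hF.2.2
  obtain ⟨e', he'⟩ := exists_gen_generic hG.2.2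
  obtain ⟨g, hg⟩ := exists_gen_generic (isRef1_dual (CurveLib.isCoh_tmod hF.1 hG.1) (AmpleLib.bijective_stalkTensor he he')).2.2
  exact isRef1_dual (isCoh_dual (CurveLib.isCoh_tmod hF.1 hG.1)) hg

end Groth.Agent.RefOne
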