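import Groth.Agent.RefOne.Stalk
import Groth.Agent.ParaFLib.Extend
import Groth.Agent.S7125
import Groth.Prelude.Def_Pi1

/-!
# Reflexive modules on normal schemes are determined in codimension one
-/

set_option autoImplicit false
set_option backward.isDefEq.respectTransparency false
set_option linter.style.haveILetI false
universe u
open CategoryTheory CategoryTheory.Limits AlgebraicGeometry TopologicalSpace Module
open Groth.Agent.PullbackMod

noncomputable section

namespace Groth.Agent.RefOne

variable {X : Scheme.{u}} [IsIntegral X]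

/-- The stalk map to the generic point. -/
abbrev toGen (F : X.Modules) (x : X) : F.presheaf.stalk x → F.presheaf.stalk (genericPoint X) :=
  F.presheaf.stalkSpecializes ((genericPoint_spec ↥X).specializes (Set.mem_univ x))

/-- The stalk map of functions to the function field. -/
abbrev toK (x : X) : X.presheaf.stalk x →+* X.presheaf.stalk (genericPoint X) :=
  (X.presheaf.stalkSpecializes ((genericPoint_spec ↥X).specializes (Set.mem_univ x))).hom

theorem isFractionRing_toK (x : X) :
    @IsFractionRing (X.presheaf.stalk x) _ (X.presheaf.stalk (genericPoint X)) _ (toK x).toAlgebra :=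
  inferInstanceAs (IsFractionRing (X.presheaf.stalk x) X.functionField)

theorem toK_injective (x : X) : Function.Injective (toK x) :=
  IsFractionRing.injective (X.presheaf.stalk x) X.functionField

theorem isField_gen : IsField (X.presheaf.stalk (genericPoint X)) := Field.toIsField X.functionField

theorem toGen_smul (F : X.Modules) (x : X) (a : X.presheaf.stalk x) (m : F.presheaf.stalk x) :
    toGen F x (a • m) = toK x a • toGen F x m :=
  stalkSpecializes_smul F _ a m

theorem toGen_germ (F : X.Modules) {U : X.Opens} (x : X) (hx : x ∈ U) (m : Γ(F, U)) :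
    toGen F x (F.presheaf.germ U x hx m) = F.presheaf.germ U (genericPoint X)
      (((genericPoint_spec ↥X).specializes (Set.mem_univ x)).mem_open U.2 hx) m :=
  TopCat.Presheaf.germ_stalkSpecializes_apply F.presheaf hx _ m

theorem toK_germ {U : X.Opens} (x : X) (hx : x ∈ U) (a : Γ(X, U)) :
    toK x (X.presheaf.germ U x hx a) = X.presheaf.germ U (genericPoint X)
      (((genericPoint_spec ↥X).specializes (Set.mem_univ x)).mem_open U.2 hx) a :=
  TopCat.Presheaf.germ_stalkSpecializes_apply X.presheaf hx _ a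

theorem stalkLin_toGen {F G : X.Modules} (φ : F ⟶ G) (x : X) (m : F.presheaf.stalk x) :
    stalkLin φ (genericPoint X) (toGen F x m) = toGen G x (stalkLin φ x m) := by
  obtain ⟨U, hx, s, rfl⟩ := TopCat.Presheaf.exists_germ_eq F.presheaf m
  rw [toGen_germ, stalkLin_germ, stalkLin_germ, toGen_germ]

theorem isTorsionFree_of_reflexiveAt {F : X.Modules} {x : X} (h : RefHull.IsReflexiveAt F x)
    {a : X.presheaf.stalk x} {m : F.presheaf.stalk x} (ha : a ≠ 0) (ham : a • m = 0) : m = 0 := by
  refine h.bijective_dual_eval'.1 (LinearMap.ext fun φ => ?_)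
  have h1 : a • φ m = 0 := by rw [← map_smul, ham, map_zero]
  show φ m = (Dual.eval (X.presheaf.stalk x) (F.presheaf.stalk x) 0) φ
  rw [map_zero]
  exact (smul_eq_zero.1 h1).resolve_left ha

theorem toGen_eq_zero {F : X.Modules} [Coh.IsQCoh F] {x : X} {m : F.presheaf.stalk x} (h : toGen F x m = 0) :
    ∃ a : X.presheaf.stalk x, a ≠ 0 ∧ a • m = 0 := by
  obtain ⟨W, hW, hx, -⟩ := exists_isAffineOpen_mem_and_subset (x := x) (U := (⊤ : X.Opens)) trivial
  have hη := ((genericPoint_spec ↥X).specializes (Set.mem_univ x)).mem_open W.2 hx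
  letI := Module.compHom (F.presheaf.stalk x) (X.presheaf.germ W x hx).hom
  letI := Module.compHom (F.presheaf.stalk (genericPoint X)) (X.presheaf.germ W _ hη).hom
  haveI := FlatLocus.isLocalizedModule_germL F hW x hx
  haveI := FlatLocus.isLocalizedModule_germL F hW _ hη
  obtain ⟨⟨s, t⟩, hst⟩ := IsLocalizedModule.surj (hW.primeIdealOf ⟨x, hx⟩).asIdeal.primeCompl (FlatLocus.germL F W x hx) m
  have hst' : X.presheaf.germ W x hx t.1 • m = F.presheaf.germ W x hx s := hst
  have h1 : FlatLocus.germL F W _ hη s = 0 := by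
    show F.presheaf.germ W _ hη s = 0
    rw [← toGen_germ F x hx s, ← hst', toGen_smul, h, smul_zero]
  obtain ⟨c, hc⟩ := (IsLocalizedModule.eq_zero_iff (hW.primeIdealOf ⟨genericPoint X, hη⟩).asIdeal.primeCompl _).1 h1
  haveI : Nonempty W := ⟨⟨x, hx⟩⟩
  refine ⟨X.presheaf.germ W x hx c.1 * X.presheaf.germ W x hx t.1, mul_ne_zero (fun h0 => ?_) (fun h0 => ?_), ?_⟩
  · have := germ_injective_of_isIntegral X x hx (h0.trans (map_zero _).symm)
    exact c.2 (this ▸ zero_mem _)
  · have := germ_injective_of_isIntegral X x hx (h0.trans (map_zero _).symm)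
    exact t.2 (this ▸ zero_mem _)
  · rw [mul_smul, hst', ← Mero.germ_smul, show c.1 • s = 0 from hc, map_zero]

theorem toGen_injective {F : X.Modules} [Coh.IsQCoh F] {x : X} (h : RefHull.IsReflexiveAt F x) :
    Function.Injective (toGen F x) := by
  intro m m' he
  refine sub_eq_zero.1 ?_
  obtain ⟨a, ha, ham⟩ := toGen_eq_zero (F := F) (m := m - m') (show toGen F x (m - m') = 0 by
    rw [show toGen F x (m - m') = toGen F x m - toGen F x m' from map_sub _ m m', he, sub_self])
  exact isTorsionFree_of_reflexiveAt h ha ham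

theorem exists_smul_mem_range {F : X.Modules} [Coh.IsQCoh F] (x : X) (v : F.presheaf.stalk (genericPoint X)) :
    ∃ (c : X.presheaf.stalk x) (m : F.presheaf.stalk x), c ≠ 0 ∧ toK x c • v = toGen F x m := by
  obtain ⟨W, hW, hx, -⟩ := exists_isAffineOpen_mem_and_subset (x := x) (U := (⊤ : X.Opens)) trivial
  have hη := ((genericPoint_spec ↥X).specializes (Set.mem_univ x)).mem_open W.2 hx
  letI := Module.compHom (F.presheaf.stalk (genericPoint X)) (X.presheaf.germ W _ hη).hom
  haveI := FlatLocus.isLocalizedModule_germL F hW _ hη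
  obtain ⟨⟨s, t⟩, hst⟩ := IsLocalizedModule.surj (hW.primeIdealOf ⟨genericPoint X, hη⟩).asIdeal.primeCompl
    (FlatLocus.germL F W _ hη) v
  have hst' : X.presheaf.germ W _ hη t.1 • v = F.presheaf.germ W _ hη s := hst
  haveI : Nonempty W := ⟨⟨x, hx⟩⟩
  refine ⟨X.presheaf.germ W x hx t.1, F.presheaf.germ W x hx s, fun h0 => ?_, ?_⟩
  · have := germ_injective_of_isIntegral X x hx (h0.trans (map_zero _).symm)
    exact t.2 (this ▸ zero_mem _)
  · rw [toK_germ, toGen_germ]; exact hst'

variable [IsLocallyNoetherian X]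

/-- Membership in a reflexive stalk is decided in codimension one. -/
theorem mem_range_of_codim_one (hX : Pi1.IsNormalScheme X) {F : X.Modules} (hF : Coh.IsCoh F) {x : X}
    (hr : RefHull.IsReflexiveAt F x) (v : F.presheaf.stalk (genericPoint X))
    (h : ∀ y : X, y ⤳ x → Order.coheight y = 1 → v ∈ Set.range (toGen F y)) : v ∈ Set.range (toGen F x) := by
  haveI := hF.1
  obtain ⟨c, m, hc, hcm⟩ := exists_smul_mem_range (F := F) x v
  obtain ⟨W, hW, hx, -⟩ := exists_isAffineOpen_mem_and_subset (x := x) (U := (⊤ : X.Opens)) trivial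
  haveI := QCohLib.isNoetherianRing_section hW
  let R := X.presheaf.stalk x
  letI : Algebra Γ(X, W) R := TopCat.Presheaf.algebra_section_stalk X.presheaf ⟨x, hx⟩
  haveI := hW.isLocalization_stalk ⟨x, hx⟩
  haveI : IsNoetherianRing R := IsLocalization.isNoetherianRing (hW.primeIdealOf ⟨x, hx⟩).asIdeal.primeCompl R inferInstance
  haveI : IsIntegrallyClosed R := (hX x).2
  have key : ∀ φ : Dual R (F.presheaf.stalk x), c ∣ φ m := fun φ => by
    refine S7125.dvd_of_forall_height_one hc fun P _ hP => ?_
    let p := P.comap (algebraMap Γ(X, W) R)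
    let y : X := hW.fromSpec ⟨p, inferInstance⟩
    have hy : y ∈ W := hW.range_fromSpec.le ⟨_, rfl⟩
    have hp : hW.primeIdealOf ⟨y, hy⟩ = ⟨p, inferInstance⟩ :=
      hW.fromSpec.isOpenEmbedding.injective (hW.fromSpec_primeIdealOf ⟨y, hy⟩)
    have hpq : p ≤ (hW.primeIdealOf ⟨x, hx⟩).asIdeal := by
      rw [← IsLocalization.AtPrime.comap_maximalIdeal R (hW.primeIdealOf ⟨x, hx⟩).asIdeal]
      exact Ideal.comap_mono (IsLocalRing.le_maximalIdeal (Ideal.IsPrime.ne_top inferInstance))
    have hyx : y ⤳ x := by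
      rw [show x = hW.fromSpec (hW.primeIdealOf ⟨x, hx⟩) from (hW.fromSpec_primeIdealOf ⟨x, hx⟩).symm]
      exact ((PrimeSpectrum.le_iff_specializes _ _).1 hpq).map hW.fromSpec.continuous
    letI : Algebra Γ(X, W) (X.presheaf.stalk y) := TopCat.Presheaf.algebra_section_stalk X.presheaf ⟨y, hy⟩
    haveI := hW.isLocalization_stalk ⟨y, hy⟩
    have hcod : Order.coheight y = 1 := by
      have h1 := IsLocalization.AtPrime.ringKrullDim_eq_height (hW.primeIdealOf ⟨y, hy⟩).asIdeal (X.presheaf.stalk y)
      rw [ringKrullDim_stalk_eq_coheight, show (hW.primeIdealOf ⟨y, hy⟩).asIdeal = p by rw [hp],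
        IsLocalization.height_comap (hW.primeIdealOf ⟨x, hx⟩).asIdeal.primeCompl P, hP] at h1
      exact WithBot.coe_eq_coe.1 h1
    obtain ⟨m', hm'⟩ := h y hyx hcod
    letI := Module.compHom (F.presheaf.stalk y) (X.presheaf.germ W y hy).hom
    haveI := FlatLocus.isLocalizedModule_germL F hW y hy
    obtain ⟨⟨s, t⟩, hst⟩ := IsLocalizedModule.surj (hW.primeIdealOf ⟨y, hy⟩).asIdeal.primeCompl (FlatLocus.germL F W y hy) m'
    have hst' : X.presheaf.germ W y hy t.1 • m' = F.presheaf.germ W y hy s := hst
    have htv : toK x (algebraMap Γ(X, W) R t.1) • v = toGen F x (F.presheaf.germ W x hx s) := by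
      rw [show algebraMap Γ(X, W) R t.1 = X.presheaf.germ W x hx t.1 from rfl, toK_germ, toGen_germ, ← hm',
        ← toK_germ y hy, ← toGen_smul, hst', toGen_germ]
    refine ⟨algebraMap Γ(X, W) R t.1, fun hm => t.2 ?_, φ (F.presheaf.germ W x hx s), ?_⟩
    · exact (congrArg (fun q : PrimeSpectrum Γ(X, W) => t.1 ∈ q.asIdeal) hp).mpr hm
    · rw [← smul_eq_mul, ← smul_eq_mul, ← map_smul, ← map_smul]
      refine congrArg φ (toGen_injective hr ?_)
      rw [toGen_smul, toGen_smul, ← htv, ← hcm, smul_comm]
  let ψ : Dual R (Dual R (F.presheaf.stalk x)) :=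
    { toFun := fun φ => (key φ).choose
      map_add' := fun φ φ' => mul_left_cancel₀ hc (by
        rw [← (key (φ + φ')).choose_spec, mul_add, ← (key φ).choose_spec, ← (key φ').choose_spec]; rfl)
      map_smul' := fun a φ => mul_left_cancel₀ hc (by
        rw [← (key (a • φ)).choose_spec, RingHom.id_apply, smul_eq_mul, mul_left_comm, ← (key φ).choose_spec]; rfl) }
  obtain ⟨w, hw⟩ := hr.bijective_dual_eval'.2 ψ
  have hcw : c • w = m := hr.bijective_dual_eval'.1 (LinearMap.ext fun φ => by
    show φ (c • w) = φ m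
    rw [map_smul, smul_eq_mul, show φ w = ψ φ from LinearMap.congr_fun hw φ]
    exact (key φ).choose_spec.symm)
  refine ⟨w, ?_⟩
  rw [← hcw, toGen_smul] at hcm
  have hu : IsUnit (toK x c) := by
    obtain ⟨b, hb⟩ := (isField_gen (X := X)).mul_inv_cancel fun h0 => hc (toK_injective x (h0.trans (map_zero _).symm))
    exact IsUnit.of_mul_eq_one _ hb
  exact (hu.smul_left_cancel.1 hcm).symm

/-- The local rings in codimension one of a normal scheme. -/
theorem isDVR (hX : Pi1.IsNormalScheme X) {y : X} (hy : Order.coheight y = 1) :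
    IsDiscreteValuationRing (X.presheaf.stalk y) := by
  let R := X.presheaf.stalk y
  haveI : IsIntegrallyClosed R := (hX y).2
  have h1 : ringKrullDim R = 1 := by rw [ringKrullDim_stalk_eq_coheight, hy]; rfl
  obtain ⟨hf, hrad⟩ := ringKrullDim_eq_one_iff_of_isLocalRing_isDomain.1 h1
  have htfae := (IsDiscreteValuationRing.TFAE (X.presheaf.stalk y) hf).out 0 3
  refine htfae.2 ⟨inferInstance, IsLocalRing.maximalIdeal (X.presheaf.stalk y),
    ⟨fun h => hf (IsLocalRing.isField_iff_maximalIdeal_eq.2 h),
      (IsLocalRing.maximalIdeal.isMaximal R).isPrime⟩, fun P ⟨hP0, hP⟩ => ?_⟩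
  obtain ⟨x, hxP, hx0⟩ := P.ne_bot_iff.1 hP0
  exact le_antisymm (IsLocalRing.le_maximalIdeal hP.ne_top)
    ((hrad x hx0).trans (hP.radical_le_iff.2 ((Ideal.span_singleton_le_iff_mem P).2 hxP)))

omit [IsLocallyNoetherian X] in
theorem exists_gen_generic {F : X.Modules} (hF : RefHull.GenInvertible F) :
    ∃ e : F.presheaf.stalk (genericPoint X), Function.Bijective fun r : X.presheaf.stalk (genericPoint X) => r • e := by
  obtain ⟨U, hU, hinv⟩ := hF
  obtain ⟨u, hu⟩ := hU.nonempty
  have hη : genericPoint X ∈ U := ((genericPoint_spec ↥X).specializes (Set.mem_univ u)).mem_open U.2 hu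
  obtain ⟨W, s, hW, hs⟩ := ParaFLib.exists_gen_nhd hinv ⟨genericPoint X, hη⟩
  exact ⟨_, ((ParaFLib.gen_restrict_iff U.ι s).1 hs).bijective_germ (genericPoint X) ⟨_, hW, rfl⟩⟩

theorem exists_gen_codim_one (hX : Pi1.IsNormalScheme X) {F : X.Modules} (hF : RefHull.IsRef1 F) {y : X}
    (hy : Order.coheight y = 1) :
    ∃ t : F.presheaf.stalk y, Submodule.span (X.presheaf.stalk y) {t} = ⊤ ∧ toGen F y t ≠ 0 := by
  obtain ⟨hc, hr, hg⟩ := hF
  haveI := hc.1
  have hry : RefHull.IsReflexiveAt F y := (isReflexive_iff hc).1 hr y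
  let R := X.presheaf.stalk y
  haveI := isDVR hX hy
  haveI : Module.IsTorsionFree R (F.presheaf.stalk y) := Module.IsTorsionFree.of_smul_eq_zero fun a m ham =>
    (eq_or_ne a 0).imp_right fun ha => isTorsionFree_of_reflexiveAt hry ha ham
  haveI : Module.Finite R (F.presheaf.stalk y) := PullbackMod.finite_stalk_of_isFT hc.2 y
  haveI : Module.Free R (F.presheaf.stalk y) := Module.free_of_finite_type_torsion_free'
  let b := Module.Free.chooseBasis R (F.presheaf.stalk y)
  obtain ⟨e, he⟩ := exists_gen_generic hg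
  have hne : Nonempty (Module.Free.ChooseBasisIndex R (F.presheaf.stalk y)) := by
    by_contra h0
    haveI := not_nonempty_iff.1 h0
    obtain ⟨c, m, hc0, hcm⟩ := exists_smul_mem_range (F := F) y e
    rw [show m = 0 from b.repr.injective (Subsingleton.elim _ _),
      show toGen F y (0 : F.presheaf.stalk y) = 0 from map_zero _] at hcm
    exact hc0 (toK_injective y ((he.1 (hcm.trans (zero_smul _ e).symm)).trans (map_zero _).symm))
  obtain ⟨i⟩ := hne
  have hsub : Subsingleton (Module.Free.ChooseBasisIndex R (F.presheaf.stalk y)) := ⟨fun i j => by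
    by_contra hij
    obtain ⟨α, hα⟩ := he.2 (toGen F y (b i))
    obtain ⟨β, hβ⟩ := he.2 (toGen F y (b j))
    obtain ⟨a, q, hq, haq⟩ := IsFractionRing.div_surjective (A := R) (K := X.functionField) (show X.functionField from α)
    obtain ⟨a', q', hq', haq'⟩ := IsFractionRing.div_surjective (A := R) (K := X.functionField) (show X.functionField from β)
    have e1 : toK y q * α = toK y a := by
      show (algebraMap R X.functionField q) * (show X.functionField from α) = algebraMap R X.functionField a
      rw [← haq, mul_div_cancel₀]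
      exact IsFractionRing.to_map_ne_zero_of_mem_nonZeroDivisors hq
    have e2 : toK y q' * β = toK y a' := by
      show (algebraMap R X.functionField q') * (show X.functionField from β) = algebraMap R X.functionField a'
      rw [← haq', mul_div_cancel₀]
      exact IsFractionRing.to_map_ne_zero_of_mem_nonZeroDivisors hq'
    have h3 : (a' * q) • b i = (a * q') • b j := by
      refine toGen_injective hry ?_
      rw [toGen_smul, toGen_smul, ← hα, ← hβ, ← mul_smul, ← mul_smul, map_mul, map_mul, mul_assoc, mul_assoc, e1, e2, mul_comm]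
    have h4 := congrArg (fun v => b.repr v i) h3
    simp [Finsupp.single_eq_of_ne hij] at h4
    rcases h4 with h4 | h4
    · subst h4
      rw [map_zero] at e2
      have hb0 : β = 0 := by
        rcases mul_eq_zero.1 (show (algebraMap R X.functionField q') * (show X.functionField from β) = 0 from e2) with h5 | h5
        · exact absurd h5 (IsFractionRing.to_map_ne_zero_of_mem_nonZeroDivisors hq')
        · exact h5
      rw [hb0] at hβ
      exact b.ne_zero j (toGen_injective hry ((hβ.symm.trans (zero_smul _ e)).trans (map_zero _).symm))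
    · exact nonZeroDivisors.ne_zero hq h4⟩
  refine ⟨b i, ?_, fun h0 => b.ne_zero i (toGen_injective hry (h0.trans (map_zero _).symm))⟩
  rw [← b.span_eq, show Set.range b = {b i} from Set.ext fun v =>
    ⟨fun ⟨j, hj⟩ => by rw [← hj, Subsingleton.elim j i]; rfl, fun hv => ⟨i, hv.symm⟩⟩]

/-- A map of generic stalks respecting the codimension one stalks comes from a morphism. -/
theorem exists_hom (hX : Pi1.IsNormalScheme X) {G F : X.Modules} (hF : Coh.IsCoh F) (hr : RefHull.IsReflexive F)
    (T : G.presheaf.stalk (genericPoint X) →ₗ[X.presheaf.stalk (genericPoint X)] F.presheaf.stalk (genericPoint X))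
    (hT : ∀ y : X, Order.coheight y = 1 → ∀ m, T (toGen G y m) ∈ Set.range (toGen F y)) :
    ∃ ψ : G ⟶ F, ∀ (x : X) m, toGen F x (stalkLin ψ x m) = T (toGen G x m) := by
  haveI := hF.1
  have hinj : ∀ x, Function.Injective (toGen F x) := fun x => toGen_injective ((isReflexive_iff hF).1 hr x)
  have hex : ∀ x m, ∃ w, toGen F x w = T (toGen G x m) := fun x m =>
    mem_range_of_codim_one hX hF ((isReflexive_iff hF).1 hr x) _ fun y hyx hy => by
      have e : toGen G x m = toGen G y (G.presheaf.stalkSpecializes hyx m) := by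
        obtain ⟨U, hx, s, rfl⟩ := TopCat.Presheaf.exists_germ_eq G.presheaf m
        rw [TopCat.Presheaf.germ_stalkSpecializes_apply, toGen_germ, toGen_germ]
      rw [e]
      exact hT y hy _
  choose f hf using hex
  let fl : ∀ x : X, RefHull.StalkHom G F x := fun x =>
    { toFun := f x
      map_add' := fun m m' => hinj x (by
        rw [show toGen F x (f x m + f x m') = toGen F x (f x m) + toGen F x (f x m') from map_add _ _ _, hf, hf, hf,
          show toGen G x (m + m') = toGen G x m + toGen G x m' from map_add _ _ _, map_add])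
      map_smul' := fun a m => hinj x (by rw [RingHom.id_apply, toGen_smul, hf, hf, toGen_smul, map_smul]) }
  let σ : Γ(RefHull.homSh G F, (⊤ : X.Opens)) := ⟨fun x => fl x.1, fun V i m x => by
    obtain ⟨U, hxU, n, hn⟩ := TopCat.Presheaf.exists_germ_eq F.presheaf (f x.1 (G.presheaf.germ V x.1 x.2 m))
    refine ⟨U ⊓ V, ⟨hxU, x.2⟩, homOfLE inf_le_right, F.presheaf.map (homOfLE inf_le_left).op n, fun y => hinj y.1 ?_⟩
    show toGen F y.1 (f y.1 (G.presheaf.germ V y.1 y.2.2 m)) = _
    rw [hf, TopCat.Presheaf.germ_res_apply, toGen_germ, toGen_germ, ← toGen_germ G x.1 x.2, ← hf, ← hn, toGen_germ]⟩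
  refine ⟨HomLib.toHom σ, fun x m => ?_⟩
  have h1 : RefHull.ofHom (HomLib.toHom σ) ⊤ = σ := HomLib.ofHom_toHom σ
  have h2 := congrFun (congrArg Subtype.val h1) ⟨x, trivial⟩
  show toGen F x (RefHull.stalkMapₗ (HomLib.toHom σ) x m) = _
  rw [show RefHull.stalkMapₗ (HomLib.toHom σ) x = fl x from h2]
  exact hf x m

end Groth.Agent.RefOne
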