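import Groth.Agent.RefOne.Normal
import Groth.Agent.OrdDet.Lattice
import Groth.Agent.TameLib.Semilocal
import Groth.Prelude.Def_C1
import Groth.Agent.PullbackMod.Hom

/-!
# Orders of rational sections of rank one modules
-/

set_option autoImplicit false
set_option backward.isDefEq.respectTransparency false
set_option linter.style.haveILetI false
universe u
open CategoryTheory CategoryTheory.Limits AlgebraicGeometry TopologicalSpace Module
open Groth.Agent.PullbackMod

noncomputable section

namespace Groth.Agent.RefOne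

variable {X : Scheme.{u}} [IsIntegral X] [IsLocallyNoetherian X]

omit [IsLocallyNoetherian X] in
theorem spec_gen (y : X) : genericPoint X ⤳ y := (genericPoint_spec ↥X).specializes (Set.mem_univ y)

theorem scheme_ord_eq {y : X} (hy : Order.coheight y = 1) (f : X.functionField) :
    Scheme.ord f y = CycAlg.ordFrac (X.presheaf.stalk y) X.functionField f := by
  haveI : Ring.KrullDimLE 1 (X.presheaf.stalk y) := krullDimLE_of_coheight_le hy.le
  rw [CycAlg.ordFrac, dif_pos ⟨inferInstance, inferInstance, inferInstance, inferInstance⟩,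
    Scheme.ord_eq_ordHom_of_coheight_eq_one hy]
  change _ = WithZero.recZeroCoe (motive := fun _ => ℤ) 0 _ (X.ordHom y hy f)
  generalize X.ordHom y hy f = v
  cases v using WithZero.recZeroCoe <;> simp

theorem scheme_ord_toK {y : X} (hy : Order.coheight y = 1) {a : X.presheaf.stalk y} (ha : a ≠ 0) :
    Scheme.ord (show X.functionField from toK y a) y = ((Ring.ord (X.presheaf.stalk y) a).toNat : ℤ) := by
  haveI : Ring.KrullDimLE 1 (X.presheaf.stalk y) := krullDimLE_of_coheight_le hy.le
  rw [scheme_ord_eq hy]
  have h := OrdDet.ordFrac_div (K := X.functionField) a 1 ha one_ne_zero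
  rw [map_one, div_one, Ring.ord_one, show (0 : ℕ∞).toNat = 0 from rfl, Nat.cast_zero, sub_zero] at h
  exact h

theorem scheme_ord_one (y : X) : Scheme.ord (1 : X.functionField) y = 0 := by
  have h := Scheme.ord_mul (x := y) (one_ne_zero (α := X.functionField)) (one_ne_zero (α := X.functionField))
  rw [one_mul] at h
  linarith

theorem scheme_ord_toK_unit {y : X} (hy : Order.coheight y = 1) {a : X.presheaf.stalk y} (ha : IsUnit a) :
    Scheme.ord (show X.functionField from toK y a) y = 0 := by
  rw [scheme_ord_toK hy ha.ne_zero, Ring.ord_of_isUnit ha]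
  rfl

theorem scheme_ord_inv {y : X} {f : X.functionField} (hf : f ≠ 0) : Scheme.ord f⁻¹ y = - Scheme.ord f y := by
  have h := Scheme.ord_mul (x := y) hf (inv_ne_zero hf)
  rw [mul_inv_cancel₀ hf, scheme_ord_one] at h
  linarith

theorem exists_div (y : X) (f : X.functionField) : ∃ a b : X.presheaf.stalk y, b ≠ 0 ∧
    (show X.functionField from toK y b) * f = toK y a := by
  obtain ⟨a, b, hb, rfl⟩ := IsFractionRing.div_surjective (A := X.presheaf.stalk y) (K := X.functionField) f
  refine ⟨a, b, nonZeroDivisors.ne_zero hb, ?_⟩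
  exact mul_div_cancel₀ _ (IsFractionRing.to_map_ne_zero_of_mem_nonZeroDivisors hb)

/-- Integrality in codimension one. -/
theorem exists_eq_toK (hX : Pi1.IsNormalScheme X) {y : X} (hy : Order.coheight y = 1) {f : X.functionField}
    (h : f = 0 ∨ 0 ≤ Scheme.ord f y) : ∃ a : X.presheaf.stalk y, toK y a = f := by
  rcases eq_or_ne f 0 with rfl | hf
  · exact ⟨0, map_zero _⟩
  replace h := h.resolve_left hf
  haveI := isDVR hX hy
  obtain ⟨a, b, hb, hab⟩ := exists_div y f
  have hb' : (show X.functionField from toK y b) ≠ 0 := fun h0 => hb (toK_injective y (h0.trans (map_zero _).symm))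
  have ha : a ≠ 0 := by
    rintro rfl
    rw [map_zero] at hab
    exact (mul_ne_zero hb' hf) hab
  have h1 := Scheme.ord_mul (x := y) hb' hf
  rw [hab, scheme_ord_toK hy ha, scheme_ord_toK hy hb] at h1
  have h2 : (Ring.ord (X.presheaf.stalk y) b).toNat ≤ (Ring.ord (X.presheaf.stalk y) a).toNat := by omega
  have h3 : Ring.ord (X.presheaf.stalk y) b ≤ Ring.ord (X.presheaf.stalk y) a := by
    haveI : Ring.KrullDimLE 1 (X.presheaf.stalk y) := krullDimLE_of_coheight_le hy.le
    rw [← ENat.coe_toNat (Ring.ord_ne_top (mem_nonZeroDivisors_of_ne_zero ha)),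
      ← ENat.coe_toNat (Ring.ord_ne_top (mem_nonZeroDivisors_of_ne_zero hb))]
    exact_mod_cast h2
  rw [Ring.ord_eq_addVal, Ring.ord_eq_addVal, IsDiscreteValuationRing.addVal_le_iff_dvd] at h3
  obtain ⟨c, rfl⟩ := h3
  refine ⟨c, mul_left_cancel₀ hb' ?_⟩
  rw [hab, map_mul]

/-- The order along the generic point is the order in the function field. -/
theorem ordAt_residue {y : X} (hy : Order.coheight y = 1) (φ : X.presheaf.stalk (genericPoint X)) :
    Cyc.ordAt y (genericPoint X) (spec_gen y) (X.residue (genericPoint X) φ) =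
      Scheme.ord (show X.functionField from φ) y := by
  let η := genericPoint X
  let A := Cyc.LocQuot y η (spec_gen y)
  let q := Ideal.Quotient.mk (RingHom.ker (Cyc.specMap y η (spec_gen y)))
  have hres : ∀ a : X.presheaf.stalk η, X.residue η a = 0 → a = 0 := fun a ha => by
    by_contra hne
    obtain ⟨b, hb⟩ := (isField_gen (X := X)).mul_inv_cancel hne
    have h1 : X.residue η (a * b) = 0 := by rw [map_mul, ha, zero_mul]
    rw [hb, map_one] at h1
    exact one_ne_zero h1
  have hker : RingHom.ker (Cyc.specMap y η (spec_gen y)) = ⊥ := by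
    refine (RingHom.injective_iff_ker_eq_bot _).1 fun a b hab => toK_injective y (sub_eq_zero.1 (hres _ ?_))
    rw [map_sub]
    exact sub_eq_zero.2 hab
  have hq : Function.Bijective q := ⟨fun a b hab => sub_eq_zero.1 (by
    have h1 : a - b ∈ RingHom.ker (Cyc.specMap y η (spec_gen y)) := (Ideal.Quotient.eq).1 hab
    rw [hker] at h1
    exact Ideal.mem_bot.1 h1), Ideal.Quotient.mk_surjective⟩
  let e : X.presheaf.stalk y ≃+* A := RingEquiv.ofBijective q hq
  haveI : IsDomain A := e.symm.injective.isDomain e.symm.toRingHom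
  haveI : IsNoetherianRing A := isNoetherianRing_of_ringEquiv _ e
  haveI : Ring.KrullDimLE 1 A := by
    have h0 : Ring.KrullDimLE 1 (X.presheaf.stalk y) := krullDimLE_of_coheight_le hy.le
    rw [Ring.krullDimLE_iff] at h0 ⊢
    rwa [← ringKrullDim_eq_of_ringEquiv e]
  have halg : ∀ a, algebraMap A (X.residueField η) (e a) = X.residue η (toK y a) := fun a => rfl
  haveI : FaithfulSMul A (X.residueField η) := (faithfulSMul_iff_algebraMap_injective _ _).2 fun a b hab => by
    obtain ⟨a, rfl⟩ := e.surjective a
    obtain ⟨b, rfl⟩ := e.surjective b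
    rw [halg, halg] at hab
    exact congrArg e (toK_injective y (sub_eq_zero.1 (hres _ (by rw [map_sub, hab, sub_self]))))
  haveI : IsFractionRing A (X.residueField η) := IsFractionRing.of_field A _ fun z => by
    obtain ⟨ζ, rfl⟩ := X.residue_surjective η z
    obtain ⟨a, b, hb, hab⟩ := exists_div y (show X.functionField from ζ)
    refine ⟨e a, e b, ?_⟩
    rw [halg, halg, eq_div_iff (fun h0 => hb (toK_injective y ((hres _ h0).trans (map_zero _).symm))), ← map_mul, mul_comm]
    exact congrArg (X.residue η) hab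
  rcases eq_or_ne φ 0 with rfl | hφ
  · rw [map_zero, Cyc.ordAt, CycAlg.ordFrac, dif_pos ⟨inferInstance, inferInstance, inferInstance, inferInstance⟩]
    show WithZero.recZeroCoe (motive := fun _ => ℤ) 0 _ (Ring.ordFrac A (0 : X.residueField η)) = _
    rw [map_zero]
    exact (congrFun (Scheme.ord_zero (X := X)) y).symm
  obtain ⟨a, b, hb, hab⟩ := exists_div y (show X.functionField from φ)
  have hb' : (show X.functionField from toK y b) ≠ 0 := fun h0 => hb (toK_injective y (h0.trans (map_zero _).symm))
  have ha : a ≠ 0 := by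
    rintro rfl
    rw [map_zero] at hab
    exact (mul_ne_zero hb' hφ) hab
  have h1 : X.residue η φ = algebraMap A (X.residueField η) (e a) / algebraMap A (X.residueField η) (e b) := by
    rw [halg, halg, eq_div_iff (fun h0 => hb (toK_injective y ((hres _ h0).trans (map_zero _).symm))), ← map_mul, mul_comm]
    exact congrArg (X.residue η) hab
  rw [Cyc.ordAt, h1, OrdDet.ordFrac_div (e a) (e b) (fun h0 => ha (e.injective (h0.trans (map_zero e).symm)))
    (fun h0 => hb (e.injective (h0.trans (map_zero e).symm))), TameLib.ord_ringEquiv, TameLib.ord_ringEquiv]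
  have h2 := Scheme.ord_mul (x := y) hb' (show (show X.functionField from φ) ≠ 0 from hφ)
  rw [hab, scheme_ord_toK hy ha, scheme_ord_toK hy hb] at h2
  omega

/-! ## The fibre at the generic point -/

omit [IsLocallyNoetherian X] in
theorem bijective_mk_fibre (F : X.Modules) : Function.Bijective (Submodule.Quotient.mk :
    F.presheaf.stalk (genericPoint X) → Cyc.secFibre F (genericPoint X)) := by
  refine ⟨fun a b hab => ?_, Submodule.Quotient.mk_surjective _⟩
  rw [Submodule.Quotient.eq, IsLocalRing.isField_iff_maximalIdeal_eq.1 isField_gen, Submodule.bot_smul,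
    Submodule.mem_bot] at hab
  exact sub_eq_zero.1 hab

/-- The order of a rational section in terms of a local generator. -/
theorem secOrdAt_eq {F : X.Modules} {y : X} (hy : Order.coheight y = 1) (σ : F.presheaf.stalk (genericPoint X))
    {t : F.presheaf.stalk y} (ht : Submodule.span (X.presheaf.stalk y) {t} = ⊤) (ht0 : toGen F y t ≠ 0)
    {φ : X.presheaf.stalk (genericPoint X)} (hφ : σ = φ • toGen F y t) :
    Cyc.secOrdAt F (genericPoint X) y (spec_gen y) (Submodule.Quotient.mk σ) =
      Scheme.ord (show X.functionField from φ) y := by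
  have hex : ∃ t : F.presheaf.stalk y, Submodule.span (X.presheaf.stalk y) {t} = ⊤ := ⟨t, ht⟩
  rw [Cyc.secOrdAt, dif_pos hex]
  set t' := Classical.choose hex with ht'def
  have ht' : Submodule.span (X.presheaf.stalk y) {t'} = ⊤ := Classical.choose_spec hex
  obtain ⟨u, hu⟩ := Submodule.mem_span_singleton.1 (ht.ge (Submodule.mem_top (x := t')))
  obtain ⟨v, hv⟩ := Submodule.mem_span_singleton.1 (ht'.ge (Submodule.mem_top (x := t)))
  have huv : toK y v * toK y u = 1 := by
    have h1 : (toK y v * toK y u - 1) • toGen F y t = 0 := by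
      rw [sub_smul, one_smul, mul_smul, ← toGen_smul, hu, ← toGen_smul, hv, sub_self]
    by_contra hne
    obtain ⟨b, hb⟩ := (isField_gen (X := X)).mul_inv_cancel (sub_ne_zero.2 hne)
    have h2 : (b * (toK y v * toK y u - 1)) • toGen F y t = 0 := by rw [mul_smul, h1, smul_zero]
    rw [mul_comm, hb, one_smul] at h2
    exact ht0 h2
  have hgt' : toGen F y t' = toK y u • toGen F y t := by rw [← toGen_smul, hu]
  have hex2 : ∃ ψ : X.presheaf.stalk (genericPoint X), (Submodule.Quotient.mk σ : Cyc.secFibre F (genericPoint X)) =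
      ψ • (Submodule.Quotient.mk (F.presheaf.stalkSpecializes (spec_gen y) t') : Cyc.secFibre F (genericPoint X)) :=
    ⟨φ * toK y v, by
      rw [← Submodule.Quotient.mk_smul]
      refine congrArg _ (?_ : σ = (φ * toK y v) • toGen F y t')
      rw [hgt', ← mul_smul, mul_assoc, huv, mul_one, hφ]⟩
  rw [dif_pos hex2]
  set ψ := Classical.choose hex2 with hψdef
  have hψ : σ = ψ • toGen F y t' := (bijective_mk_fibre F).1 (by
    rw [Submodule.Quotient.mk_smul]; exact Classical.choose_spec hex2)
  have hψφ : φ = ψ * toK y u := by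
    by_contra hne
    obtain ⟨b, hb⟩ := (isField_gen (X := X)).mul_inv_cancel (sub_ne_zero.2 hne)
    have h1 : (φ - ψ * toK y u) • toGen F y t = 0 := by
      rw [sub_smul, mul_smul, ← hgt', ← hψ, ← hφ, sub_self]
    have h2 : (b * (φ - ψ * toK y u)) • toGen F y t = 0 := by rw [mul_smul, h1, smul_zero]
    rw [mul_comm, hb, one_smul] at h2
    exact ht0 h2
  rw [ordAt_residue hy, hψφ]
  have hu' : IsUnit u := isUnit_of_mul_isUnit_right (x := v) (toK_injective y
    (show toK y (v * u) = toK y 1 by rw [map_mul, huv, map_one]) ▸ isUnit_one)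
  rcases eq_or_ne ψ 0 with h0 | h0
  · rw [h0, zero_mul]
  · have h3 := Scheme.ord_mul (x := y) (show (show X.functionField from ψ) ≠ 0 from h0)
      (show (show X.functionField from toK y u) ≠ 0 from
        fun h => hu'.ne_zero (toK_injective y (h.trans (map_zero _).symm)))
    rw [scheme_ord_toK_unit hy hu', add_zero] at h3
    exact h3.symm

omit [IsLocallyNoetherian X] in
theorem exists_smul_eq {F : X.Modules} {e : F.presheaf.stalk (genericPoint X)}
    (he : Function.Bijective fun r : X.presheaf.stalk (genericPoint X) => r • e)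
    {v : F.presheaf.stalk (genericPoint X)} (hv : v ≠ 0) :
    Function.Bijective fun r : X.presheaf.stalk (genericPoint X) => r • v := by
  obtain ⟨α, rfl⟩ := he.2 v
  have hα : α ≠ 0 := fun h => hv (by rw [h]; exact zero_smul _ e)
  obtain ⟨β, hβ⟩ := (isField_gen (X := X)).mul_inv_cancel hα
  have : (fun r : X.presheaf.stalk (genericPoint X) => r • (α • e)) = (fun r => r • e) ∘ (fun r => r * α) :=
    funext fun r => (mul_smul r α e).symm
  show Function.Bijective fun r : X.presheaf.stalk (genericPoint X) => r • (α • e)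
  rw [this]
  exact he.comp ⟨fun a b h => by
    have h2 : a * (α * β) = b * (α * β) := by rw [← mul_assoc, ← mul_assoc]; exact congrArg (· * β) h
    rwa [hβ, mul_one, mul_one] at h2, fun r => ⟨r * β, by
    show r * β * α = r
    rw [mul_assoc, mul_comm β, hβ, mul_one]⟩⟩

/-- Morphisms into a reflexive module are determined generically. -/
theorem hom_ext_generic {G F : X.Modules} (hF : Coh.IsCoh F) (hr : RefHull.IsReflexive F) {φ ψ : G ⟶ F}
    (h : stalkLin φ (genericPoint X) = stalkLin ψ (genericPoint X)) : φ = ψ := by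
  haveI := hF.1
  refine hom_ext_stalk fun x => LinearMap.ext fun m => toGen_injective ((isReflexive_iff hF).1 hr x) ?_
  rw [← stalkLin_toGen, ← stalkLin_toGen, h]

/-- A section with smaller orders maps to one with larger orders. -/
theorem exists_hom_of_ord_le (hX : Pi1.IsNormalScheme X) {F G : X.Modules} (hF : RefHull.IsRef1 F) (hG : RefHull.IsRef1 G)
    {σ : F.presheaf.stalk (genericPoint X)} (hσ : σ ≠ 0) {τ : G.presheaf.stalk (genericPoint X)} (hτ : τ ≠ 0)
    (h : ∀ y : X, Order.coheight y = 1 →
      Cyc.secOrdAt F (genericPoint X) y (spec_gen y) (Submodule.Quotient.mk σ) ≤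
        Cyc.secOrdAt G (genericPoint X) y (spec_gen y) (Submodule.Quotient.mk τ)) :
    ∃ ψ : F ⟶ G, stalkLin ψ (genericPoint X) σ = τ := by
  obtain ⟨e, he⟩ := exists_gen_generic hF.2.2
  let E : X.presheaf.stalk (genericPoint X) ≃ₗ[X.presheaf.stalk (genericPoint X)] F.presheaf.stalk (genericPoint X) :=
    LinearEquiv.ofBijective (LinearMap.toSpanSingleton (X.presheaf.stalk (genericPoint X)) (F.presheaf.stalk (genericPoint X)) σ)
      (exists_smul_eq he hσ)
  let T := (LinearMap.toSpanSingleton (X.presheaf.stalk (genericPoint X)) (G.presheaf.stalk (genericPoint X)) τ).comp E.symm.toLinearMap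
  have hT : ∀ r : X.presheaf.stalk (genericPoint X), T (r • σ) = r • τ := fun r => by
    show LinearMap.toSpanSingleton _ _ τ (E.symm (r • σ)) = r • τ
    rw [show r • σ = E r from rfl, LinearEquiv.symm_apply_apply]
    rfl
  obtain ⟨ψ, hψ⟩ := exists_hom hX hG.1 hG.2.1 T fun y hy m => by
    obtain ⟨tF, htF, htF0⟩ := exists_gen_codim_one hX hF hy
    obtain ⟨tG, htG, htG0⟩ := exists_gen_codim_one hX hG hy
    obtain ⟨e', he'⟩ := exists_gen_generic hG.2.2
    obtain ⟨c, rfl⟩ := Submodule.mem_span_singleton.1 (htF.ge (Submodule.mem_top (x := m)))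
    obtain ⟨φ, hφ⟩ := (exists_smul_eq he htF0).2 σ
    obtain ⟨φ', hφ'⟩ := (exists_smul_eq he' htG0).2 τ
    have hφ0 : φ ≠ 0 := fun h0 => hσ (by rw [← hφ, h0]; exact zero_smul _ _)
    have hle := h y hy
    rw [secOrdAt_eq hy σ htF htF0 hφ.symm, secOrdAt_eq hy τ htG htG0 hφ'.symm] at hle
    have hφK : (show X.functionField from φ) ≠ 0 := hφ0
    let f : X.functionField := (show X.functionField from φ') * (show X.functionField from φ)⁻¹
    have hf : f = 0 ∨ 0 ≤ Scheme.ord f y := by
      rcases eq_or_ne f 0 with h0 | h0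
      · exact Or.inl h0
      refine Or.inr ?_
      rw [Scheme.ord_mul (left_ne_zero_of_mul h0) (inv_ne_zero hφK), scheme_ord_inv hφK]
      omega
    obtain ⟨a, ha⟩ := exists_eq_toK hX hy hf
    refine ⟨(c * a) • tG, ?_⟩
    have h1 : toGen F y tF = (show X.presheaf.stalk (genericPoint X) from (show X.functionField from φ)⁻¹) • σ := by
      rw [← hφ]
      show _ = _ • (φ • toGen F y tF)
      rw [← mul_smul, show (show X.presheaf.stalk (genericPoint X) from (show X.functionField from φ)⁻¹) * φ = 1 from
        inv_mul_cancel₀ hφK, one_smul]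
    rw [toGen_smul, toGen_smul, map_smul, h1, hT, map_mul, mul_smul, ← hφ']
    refine congrArg (toK y c • ·) ?_
    show _ = _ • (φ' • toGen G y tG)
    rw [← mul_smul]
    refine congrArg (· • toGen G y tG) ?_
    rw [ha]
    exact mul_comm _ _
  refine ⟨ψ, ?_⟩
  have h1 := hψ (genericPoint X) σ
  have hid : ∀ (M : X.Modules) (v : M.presheaf.stalk (genericPoint X)), toGen M (genericPoint X) v = v := fun M v => by
    obtain ⟨U, hU, s, rfl⟩ := TopCat.Presheaf.exists_germ_eq M.presheaf v
    exact toGen_germ M _ hU s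
  rw [hid, hid] at h1
  rw [h1, ← one_smul (X.presheaf.stalk (genericPoint X)) σ, hT, one_smul]

end Groth.Agent.RefOne
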